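import Mathlib

/-!
# Prime powers next to powers of two
-/

set_option autoImplicit false

namespace Cfsg.Agent.EPPO42

theorem three_dvd_pm (n : ℕ) : (n % 2 = 0 → 3 ∣ 2 ^ n - 1) ∧ (n % 2 = 1 → 3 ∣ 2 ^ n + 1) := by
  induction n with
  | zero => norm_num
  | succ n ih =>
    have e : 2 ^ (n + 1) = 2 * 2 ^ n := by ring
    have := Nat.one_le_two_pow (n := n)
    constructor
    · intro h
      obtain ⟨c, hc⟩ := ih.2 (by omega)
      omega
    · intro h
      obtain ⟨c, hc⟩ := ih.1 (by omega)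
      omega

theorem eq_of_two_pow_succ_eq_three_pow {n a : ℕ} (h : 2 ^ n + 1 = 3 ^ a) : n = 1 ∨ n = 3 := by
  obtain ⟨b, rfl | rfl⟩ := Nat.even_or_odd' a
  · rw [two_mul, pow_add] at h
    obtain ⟨c, hc⟩ : ∃ c, 3 ^ b = 2 * c + 1 :=
      ⟨3 ^ b / 2, by have := Nat.odd_iff.1 ((by decide : Odd 3).pow (n := b)); omega⟩
    rw [hc] at h
    have e : (2 * c + 1) * (2 * c + 1) = 2 * c * (2 * c + 2) + 1 := by ring
    rw [e] at h
    have h' : 2 * c * (2 * c + 2) = 2 ^ n := by omega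
    obtain ⟨i, -, hi⟩ := (Nat.dvd_prime_pow Nat.prime_two).1 (Dvd.intro _ h')
    obtain ⟨j, -, hj⟩ := (Nat.dvd_prime_pow Nat.prime_two).1 (Dvd.intro_left _ h')
    rcases i with _ | _ | i
    · omega
    · have hc1 : c = 1 := by simp at hi; omega
      subst hc1
      right
      exact Nat.pow_right_injective le_rfl (show 2 ^ n = 2 ^ 3 by omega)
    · rcases j with _ | _ | j
      · simp at hj
      · simp at hj hi
        have := Nat.one_le_two_pow (n := i + 1 + 1)
        omega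
      · have e1 : 2 ^ (i + 2) = 4 * 2 ^ i := by ring
        have e2 : 2 ^ (j + 2) = 4 * 2 ^ j := by ring
        omega
  · left
    have h8 : ∀ b : ℕ, 3 ^ (2 * b + 1) % 8 = 3 := by
      intro b
      induction b with
      | zero => norm_num
      | succ b ih =>
        have : 3 ^ (2 * (b + 1) + 1) = 9 * 3 ^ (2 * b + 1) := by ring
        omega
    have := h8 b
    rcases n with _ | _ | _ | n
    · simp at h; omega
    · rfl
    · simp at h; omega
    · have : 2 ^ (n + 3) = 8 * 2 ^ n := by ring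
      omega

theorem eq_of_two_pow_eq_three_pow_succ {n a : ℕ} (h : 2 ^ n = 3 ^ a + 1) : n ≤ 2 := by
  obtain ⟨b, rfl | rfl⟩ := Nat.even_or_odd' a
  · have h8 : ∀ b : ℕ, 3 ^ (2 * b) % 8 = 1 := by
      intro b
      induction b with
      | zero => norm_num
      | succ b ih =>
        have : 3 ^ (2 * (b + 1)) = 9 * 3 ^ (2 * b) := by ring
        omega
    have := h8 b
    rcases n with _ | _ | _ | n
    · omega
    · omega
    · omega
    · have : 2 ^ (n + 3) = 8 * 2 ^ n := by ring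
      omega
  · have h8 : ∀ b : ℕ, 3 ^ (2 * b + 1) % 8 = 3 := by
      intro b
      induction b with
      | zero => norm_num
      | succ b ih =>
        have : 3 ^ (2 * (b + 1) + 1) = 9 * 3 ^ (2 * b + 1) := by ring
        omega
    have := h8 b
    rcases n with _ | _ | _ | n
    · omega
    · omega
    · omega
    · have : 2 ^ (n + 3) = 8 * 2 ^ n := by ring
      omega

/-- A prime power divisible by the prime `r` is a power of `r`. -/
theorem pow_of_dvd {m r : ℕ} (hm : IsPrimePow m) (hr : r.Prime) (hd : r ∣ m) :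
    ∃ a, 0 < a ∧ m = r ^ a := by
  obtain ⟨s, k, hs, hk, rfl⟩ := hm
  have := (Nat.prime_dvd_prime_iff_eq hr (Nat.prime_iff.2 hs)).1 (hr.dvd_of_dvd_pow hd)
  exact ⟨k, hk, by rw [this]⟩

/-- `2 ^ n - 1` and `2 ^ n + 1` are both prime powers only for `n = 2, 3`. -/
theorem le_three_of_primePow {n : ℕ} (hn : 2 ≤ n) (h1 : IsPrimePow (2 ^ n - 1))
    (h2 : IsPrimePow (2 ^ n + 1)) : n = 2 ∨ n = 3 := by
  rcases Nat.mod_two_eq_zero_or_one n with h | h
  · obtain ⟨a, -, ha⟩ := pow_of_dvd h1 Nat.prime_three ((three_dvd_pm n).1 h)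
    have := Nat.one_le_two_pow (n := n)
    have := eq_of_two_pow_eq_three_pow_succ (n := n) (a := a) (by omega)
    omega
  · obtain ⟨a, -, ha⟩ := pow_of_dvd h2 Nat.prime_three ((three_dvd_pm n).2 h)
    have := eq_of_two_pow_succ_eq_three_pow ha
    omega

/-- The Fermat and Mersenne primes `q` with both `(q ± 1) / 2` prime powers. -/
theorem fermat_mersenne {q k : ℕ} (hq : q.Prime) (h5 : 5 ≤ q)
    (hk : q = 2 ^ k + 1 ∨ q + 1 = 2 ^ k) (h1 : IsPrimePow ((q - 1) / 2))
    (h2 : IsPrimePow ((q + 1) / 2)) : q = 5 ∨ q = 7 ∨ q = 17 := by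
  obtain ⟨k, rfl⟩ : ∃ i, k = i + 2 := by
    refine ⟨k - 2, ?_⟩
    by_contra h
    have : k < 2 := by omega
    interval_cases k <;> norm_num at hk <;> omega
  have e : 2 ^ (k + 2) = 2 * 2 ^ (k + 1) := by ring
  rcases Nat.mod_two_eq_zero_or_one k with hkp | hkp
  · rcases hk with hk | hk
    · -- `q = 2 ^ (even) + 1`
      have hd := (three_dvd_pm (k + 1)).2 (by omega)
      rw [show (q + 1) / 2 = 2 ^ (k + 1) + 1 by omega] at h2
      obtain ⟨a, -, ha⟩ := pow_of_dvd h2 Nat.prime_three hd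
      rcases eq_of_two_pow_succ_eq_three_pow ha with h | h
      · left; rw [hk, show k + 2 = 2 by omega]; norm_num
      · right; right; rw [hk, show k + 2 = 4 by omega]; norm_num
    · -- `q = 2 ^ (even) - 1`
      exfalso
      have hd : 3 ∣ q := by
        obtain ⟨c, hc⟩ := (three_dvd_pm (k + 2)).1 (by omega)
        exact ⟨c, by omega⟩
      have := (Nat.prime_dvd_prime_iff_eq Nat.prime_three hq).1 hd
      omega
  · rcases hk with hk | hk
    · exfalso
      have hd : 3 ∣ q := hk ▸ (three_dvd_pm (k + 2)).2 (by omega)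
      have := (Nat.prime_dvd_prime_iff_eq Nat.prime_three hq).1 hd
      omega
    · right; left
      have hd := (three_dvd_pm (k + 1)).1 (by omega)
      rw [show (q - 1) / 2 = 2 ^ (k + 1) - 1 by omega] at h1
      obtain ⟨a, -, ha⟩ := pow_of_dvd h1 Nat.prime_three hd
      have := Nat.one_le_two_pow (n := k + 1)
      have := eq_of_two_pow_eq_three_pow_succ (n := k + 1) (a := a) (by omega)
      have hk1 : k = 1 := by omega
      subst hk1
      norm_num at hk
      omega

theorem two_pow_dvd_exponent : ∀ (j a : ℕ), 2 ^ (j + 2) ∣ 5 ^ a - 1 → 2 ^ j ∣ a := by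
  intro j
  induction j with
  | zero => simp
  | succ j ih =>
    intro a h
    obtain ⟨b, rfl | rfl⟩ := Nat.even_or_odd' a
    · rw [pow_succ' 2 j]
      refine Nat.mul_dvd_mul_left 2 (ih b ?_)
      have hb4 : ∀ b : ℕ, 5 ^ b % 4 = 1 := fun b => by simp [Nat.pow_mod]
      obtain ⟨c, hc⟩ : ∃ c, 5 ^ b = 4 * c + 1 := ⟨5 ^ b / 4, by have := hb4 b; omega⟩
      have e : 5 ^ (2 * b) - 1 = (5 ^ b - 1) * (2 * (2 * c + 1)) := by
        rw [two_mul, pow_add, hc, show (4 * c + 1) * (4 * c + 1) = 4 * c * (2 * (2 * c + 1)) + 1 by ring,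
          Nat.add_sub_cancel, Nat.add_sub_cancel]
      rw [e, ← mul_assoc, show j + 1 + 2 = (j + 2) + 1 by ring, pow_succ] at h
      have hco : Nat.Coprime (2 ^ (j + 2) * 2) (2 * c + 1) := by
        refine Nat.Coprime.mul_left (Nat.Coprime.pow_left _ ?_) ?_ <;>
          exact (Nat.prime_two.coprime_iff_not_dvd).2 (by omega)
      exact Nat.dvd_of_mul_dvd_mul_right two_pos (hco.dvd_of_dvd_mul_right h)
    · exfalso
      have h8 : ∀ b : ℕ, 5 ^ (2 * b + 1) % 8 = 5 := by
        intro b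
        induction b with
        | zero => norm_num
        | succ b ih =>
          have : 5 ^ (2 * (b + 1) + 1) = 25 * 5 ^ (2 * b + 1) := by ring
          omega
      have h1 : 8 ∣ 5 ^ (2 * b + 1) - 1 := by
        refine dvd_trans ?_ h
        rw [show (8 : ℕ) = 2 ^ 3 by norm_num]
        exact pow_dvd_pow 2 (by omega)
      have := h8 b
      generalize 5 ^ (2 * b + 1) = N at *
      omega

/-- The Suzuki groups with both tori of order `q ± r + 1` of prime power order. -/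
theorem suzuki_le_two {m : ℕ} (hm : 1 ≤ m)
    (h1 : IsPrimePow (2 ^ (2 * m + 1) + 2 ^ (m + 1) + 1))
    (h2 : IsPrimePow (2 ^ (2 * m + 1) - 2 ^ (m + 1) + 1)) : m ≤ 2 := by
  by_contra hlt
  obtain ⟨i, rfl⟩ : ∃ i, m = i + 3 := ⟨m - 3, by omega⟩
  have h5 : 5 ∣ (2 ^ (2 * (i + 3) + 1)) ^ 2 + 1 := by
    clear h1 h2 hm hlt
    induction i with
    | zero => norm_num
    | succ i ih =>
      have e : (2 ^ (2 * (i + 1 + 3) + 1)) ^ 2 = 16 * (2 ^ (2 * (i + 3) + 1)) ^ 2 := by ring
      omega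
  set x := 2 ^ (i + 3) with hx
  have hx8 : 8 ≤ x := by
    calc 8 = 2 ^ 3 := by norm_num
      _ ≤ x := Nat.pow_le_pow_right two_pos (by omega)
  have eq : 2 ^ (2 * (i + 3) + 1) = 2 * x * x := by rw [hx]; ring
  have er : 2 ^ (i + 3 + 1) = 2 * x := by rw [hx]; ring
  rw [eq, er] at h1 h2
  rw [eq] at h5
  obtain ⟨e, he⟩ : ∃ e, 2 * x * x = 2 * x + e :=
    ⟨2 * x * x - 2 * x, by nlinarith [Nat.sub_add_cancel (show 2 * x ≤ 2 * x * x by nlinarith)]⟩
  have hprod : (2 * x * x + 2 * x + 1) * (2 * x * x - 2 * x + 1) = (2 * x * x) ^ 2 + 1 := by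
    rw [show 2 * x * x - 2 * x + 1 = e + 1 by omega]
    nlinarith
  have hodd : ∀ y : ℕ, y % 2 = 1 → y ≤ 2 * x → ∀ a, 2 * x * y = 5 ^ a - 1 → 0 < a → False := by
    intro y hy hyx a ha ha0
    have hd : 2 ^ ((i + 2) + 2) ∣ 5 ^ a - 1 := ⟨y, by rw [← ha, hx]; ring⟩
    have hle := Nat.le_of_dvd ha0 (two_pow_dvd_exponent _ _ hd)
    have h4 : 4 ^ a ≤ 4 ^ (i + 4) := by
      have : 5 ^ a ≤ 4 * x * x + 1 := by
        have := Nat.mul_le_mul_left (2 * x) hyx
        have : 2 * x * (2 * x) = 4 * x * x := by ring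
        omega
      have hx2 : 4 * x * x = 4 ^ (i + 4) := by rw [hx, show (4 : ℕ) = 2 ^ 2 by norm_num, ← pow_mul]; ring
      have h45 : 4 ^ a < 5 ^ a := Nat.pow_lt_pow_left (by norm_num) ha0.ne'
      omega
    have ha4 := (Nat.pow_le_pow_iff_right (by norm_num)).1 h4
    rcases i with _ | i
    · have hapos : a = 4 := by norm_num at hle; omega
      subst hapos
      norm_num [hx] at ha hyx
      omega
    · have : 2 ^ (i + 1 + 2) = 8 * 2 ^ i := by ring
      have hi : i < 2 ^ i := Nat.lt_two_pow_self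
      omega
  have hxe : x % 2 = 0 := by rw [hx, Nat.pow_mod]; simp
  rw [← hprod] at h5
  rcases (Nat.Prime.dvd_mul Nat.prime_five).1 h5 with h | h
  · obtain ⟨a, ha, hpow⟩ := pow_of_dvd h1 Nat.prime_five h
    refine hodd (x + 1) (by omega) (by omega) a ?_ ha
    rw [← hpow]
    ring_nf
    omega
  · obtain ⟨a, ha, hpow⟩ := pow_of_dvd h2 Nat.prime_five h
    refine hodd (x - 1) (by omega) (by omega) a ?_ ha
    rw [← hpow, Nat.mul_sub, mul_one]
    omega

end Cfsg.Agent.EPPO42
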