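import Cfsg.Agent.EPPO42.PSLSeven
import Cfsg.Agent.EPPO42.Arith
import Cfsg.Agent.S0254
import Cfsg.Agent.S0333
import Cfsg.Agent.Lib.RankOne.SzBridge
import Cfsg.Prelude.Def_Sz

/-!
# Simple groups in which every element has prime power order
-/

set_option autoImplicit false
set_option linter.style.haveILetI false

open Subgroup

namespace Cfsg.Agent.EPPO42

open Cfsg.Agent.S3992

universe u

/-- The classification of simple CIT-groups, with the Suzuki groups identified. -/
def CITIso : Prop :=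
  ∀ (G : Type u) [Group G] [Finite G] [IsSimpleGroup G], (∃ a b : G, a * b ≠ b * a) →
    (∀ t : G, orderOf t = 2 → IsPGroup 2 (Subgroup.centralizer ({t} : Set G))) →
    (∃ (F : Type) (_ : Field F) (_ : Fintype F),
        (Fintype.card F = 9 ∨ (∃ n : ℕ, Fintype.card F = 2 ^ n) ∨
          ((Fintype.card F).Prime ∧ ∃ k : ℕ, Fintype.card F = 2 ^ k + 1 ∨ Fintype.card F + 1 = 2 ^ k)) ∧
        Nonempty (G ≃* Matrix.ProjectiveSpecialLinearGroup (Fin 2) F)) ∨
    (∃ (F : Type) (_ : Field F) (_ : Fintype F), Fintype.card F = 4 ∧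
        Nonempty (G ≃* Matrix.ProjectiveSpecialLinearGroup (Fin 3) F)) ∨
    (Cfsg.Lie.IsoSuzuki G ∧ Cfsg.IsSuzuki G)

theorem citClass_of_iso (h : CITIso.{u}) : CITClass.{u} := fun G _ _ _ hG hC =>
  (h G hG hC).imp_right (Or.imp_right And.right)

theorem four_le_card {G : Type u} [Group G] [Finite G] [IsSimpleGroup G]
    (hG : ∃ a b : G, a * b ≠ b * a) {F : Type} [Field F] [Fintype F]
    (e : G ≃* Matrix.ProjectiveSpecialLinearGroup (Fin 2) F) : 4 ≤ Fintype.card F := by
  classical
  by_contra hlt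
  obtain ⟨a, b, hab⟩ := hG
  have hcard := LinearGroup.gcd_mul_card_PSL_two (F := F)
  rw [← Nat.card_congr e.toEquiv, Nat.card_eq_fintype_card (α := F)] at hcard
  have h1 : 1 < Fintype.card F := Fintype.one_lt_card
  haveI : Group.IsSolvable G := by
    generalize Fintype.card F = q at hcard h1 hlt
    interval_cases q
    · norm_num at hcard
      exact CharCore.isSolvable_of_card_eq_prime_pow_mul Nat.prime_two Nat.prime_three (Nat.card G) G 1 1
        rfl (by omega)
    · norm_num at hcard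
      exact CharCore.isSolvable_of_card_eq_prime_pow_mul Nat.prime_two Nat.prime_three (Nat.card G) G 2 1
        rfl (by omega)
  exact hab (IsSimpleGroup.comm_iff_isSolvable.2 inferInstance a b)

theorem exists_field_four : ∃ (K : Type) (_ : Field K) (_ : Fintype K), Fintype.card K = 4 := by
  letI : Fintype (GaloisField 2 2) := Fintype.ofFinite _
  exact ⟨GaloisField 2 2, inferInstance, inferInstance, by
    rw [← Nat.card_eq_fintype_card, GaloisField.card 2 2 two_ne_zero]; norm_num⟩

/-- The simple groups in which every nontrivial element has prime power order. -/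
theorem eppo_simple (hCIT : CITIso.{u}) {G : Type u} [Group G] [Finite G] [IsSimpleGroup G]
    (hG : ∃ a b : G, a * b ≠ b * a) (h : CP G) :
    Nonempty (G ≃* alternatingGroup (Fin 6)) ∨
    (∃ (F : Type) (_ : Field F) (_ : Fintype F), Fintype.card F ∈ ({4, 7, 8, 17} : Finset ℕ) ∧
      Nonempty (G ≃* Matrix.ProjectiveSpecialLinearGroup (Fin 2) F)) ∨
    (∃ (F : Type) (_ : Field F) (_ : Fintype F), Fintype.card F = 4 ∧
      Nonempty (G ≃* Matrix.ProjectiveSpecialLinearGroup (Fin 3) F)) ∨
    (∃ (F : Type) (_ : Field F) (_ : Fintype F),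
      (Fintype.card F = 8 ∧ Nonempty (G ≃* ↥(Cfsg.Lie.Sz F 4))) ∨
      (Fintype.card F = 32 ∧ Nonempty (G ≃* ↥(Cfsg.Lie.Sz F 8)))) := by
  classical
  rcases hCIT G hG (fun t ht => h.isPGroup_centralizer Nat.prime_two ht) with
    ⟨F, iF, iFF, hform, ⟨e⟩⟩ | hL | ⟨⟨F, iF, iFF, m, hm, hF, ⟨e⟩⟩, -⟩
  · have h4 := four_le_card hG e
    obtain ⟨p, hcp⟩ := CharP.exists F
    haveI := Fact.mk (CharP.char_is_prime F p)
    have hord : ∀ k, (k = (Fintype.card F - 1) / Nat.gcd 2 (Fintype.card F - 1) ∨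
        k = (Fintype.card F + 1) / Nat.gcd 2 (Fintype.card F - 1)) → 1 < k → IsPrimePow k := by
      intro k hk h1
      have hmem : k ∈ Set.range (orderOf : Matrix.ProjectiveSpecialLinearGroup (Fin 2) F → ℕ) := by
        rw [SL2Tor.range_orderOf_psl (F := F) p]
        rcases hk with rfl | rfl
        · exact Or.inr (Or.inl (dvd_refl _))
        · exact Or.inr (Or.inr (dvd_refl _))
      obtain ⟨x, hx⟩ := hmem
      have := h (e.symm x) (fun he => by
        rw [← MulEquiv.orderOf_eq e.symm, he, orderOf_one] at hx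
        omega)
      rwa [MulEquiv.orderOf_eq, hx] at this
    rcases hform with h9 | ⟨n, hn⟩ | ⟨hq, k, hk⟩
    · obtain ⟨e'⟩ := S0254.result h9
      exact Or.inl ⟨e.trans e'⟩
    · refine Or.inr (Or.inl ⟨F, iF, iFF, ?_, ⟨e⟩⟩)
      have hn2 : 2 ≤ n := by
        by_contra hlt
        interval_cases n <;> omega
      have he : 2 ∣ 2 ^ n := dvd_pow_self 2 (by omega)
      have hg : Nat.gcd 2 (Fintype.card F - 1) = 1 := by
        refine Nat.Coprime.gcd_eq_one ((Nat.prime_two.coprime_iff_not_dvd).2 ?_)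
        omega
      rw [hg, hn, Nat.div_one, Nat.div_one] at hord
      rcases le_three_of_primePow hn2 (hord _ (Or.inl rfl) (by omega))
        (hord _ (Or.inr rfl) (by omega)) with rfl | rfl <;> simp [hn]
    · have hodd : Fintype.card F % 2 = 1 := hq.eq_two_or_odd.resolve_left (by omega)
      rw [show Nat.gcd 2 (Fintype.card F - 1) = 2 from Nat.gcd_eq_left (by omega)] at hord
      rcases fermat_mersenne hq (by omega) hk (hord _ (Or.inl rfl) (by omega))
        (hord _ (Or.inr rfl) (by omega)) with h5 | h7 | h17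
      · refine Or.inr (Or.inl ?_)
        obtain ⟨K, iK, iKF, hK⟩ := exists_field_four
        obtain ⟨e1⟩ := LinearGroup.psl_two_five (F := F) (by rw [Nat.card_eq_fintype_card, h5])
        obtain ⟨e2⟩ := LinearGroup.psl_two_small (F := K)
          (Or.inr (by rw [Nat.card_eq_fintype_card, hK]))
        rw [Nat.card_eq_fintype_card (α := K), hK] at e2
        exact ⟨K, iK, iKF, by simp [hK], ⟨(e.trans e1).trans e2.symm⟩⟩
      · exact Or.inr (Or.inl ⟨F, iF, iFF, by simp [h7], ⟨e⟩⟩)
      · exact Or.inr (Or.inl ⟨F, iF, iFF, by simp [h17], ⟨e⟩⟩)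
  · exact Or.inr (Or.inr (Or.inl hL))
  · refine Or.inr (Or.inr (Or.inr ⟨F, iF, iFF, ?_⟩))
    let f := e.trans (RankOne.SzBridge.szEquiv hF hm).symm
    have hk : ∀ k ∈ ({2 ^ (2 * m + 1) + 2 ^ (m + 1) + 1, 2 ^ (2 * m + 1) - 2 ^ (m + 1) + 1} : Set ℕ),
        1 < k → IsPrimePow k := by
      intro k hk h1
      obtain ⟨U, hU, hUk, -, -⟩ := S0333.result hm hF k hk
      obtain ⟨g, hg⟩ := IsCyclic.exists_generator (α := U)
      have ho : orderOf g = k := (orderOf_eq_card_of_forall_mem_zpowers hg).trans hUk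
      have := h (f.symm g) (fun he => by
        have h2 := MulEquiv.orderOf_eq f.symm (g : Cfsg.Sz F m)
        rw [he, orderOf_one, Subgroup.orderOf_coe, ho] at h2
        omega)
      rwa [MulEquiv.orderOf_eq, Subgroup.orderOf_coe, ho] at this
    have hlt : 2 ^ (m + 1) < 2 ^ (2 * m + 1) := Nat.pow_lt_pow_right (by norm_num) (by omega)
    have := Nat.one_le_two_pow (n := m + 1)
    have hm2 := suzuki_le_two hm (hk _ (by simp) (by omega)) (hk _ (by simp) (by omega))
    interval_cases m
    · exact Or.inl ⟨by rw [hF]; norm_num, ⟨e⟩⟩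
    · exact Or.inr ⟨by rw [hF]; norm_num, ⟨e⟩⟩

end Cfsg.Agent.EPPO42
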