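import Mathlib
import Cfsg.Agent.S3992
import Cfsg.Agent.Lib.Solvable.Basic
import Cfsg.Agent.Lib.Involution.StronglyEmbedded

/-!
# Groups in which every element has prime power order: the solvable radical
-/

set_option autoImplicit false
set_option linter.style.haveILetI false
set_option linter.unusedSectionVars false

open Subgroup

namespace Cfsg.Agent.EPPO42

open Cfsg.Agent.S3992

universe u

variable {G : Type u} [Group G] [Finite G]

theorem exists_radical : ∃ R : Subgroup G, R.Normal ∧ Group.IsSolvable R ∧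
    ∀ N : Subgroup G, N.Normal → Group.IsSolvable N → N ≤ R := by
  obtain ⟨R, -, hR⟩ := Finite.exists_le_maximal
    (p := fun N : Subgroup G => N.Normal ∧ Group.IsSolvable N) (a := ⊥)
    ⟨inferInstance, inferInstance⟩
  obtain ⟨hRn, hRs⟩ := hR.prop
  refine ⟨R, hRn, hRs, fun N hN hNs => ?_⟩
  haveI := hRn
  haveI := hN
  haveI := hRs
  haveI := hNs
  have hle : R ≤ R ⊔ N := le_sup_left
  haveI : Group.IsSolvable ↥(R ⊔ N) := by
    let f : ↥(R ⊔ N) →* G ⧸ R := (QuotientGroup.mk' R).comp (R ⊔ N).subtype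
    have hrange : f.range ≤ ((QuotientGroup.mk' R).comp N.subtype).range := by
      rintro _ ⟨x, rfl⟩
      obtain ⟨a, ha, b, hb, hab⟩ := Subgroup.mem_sup_of_normal_left.1 x.2
      refine ⟨⟨b, hb⟩, ?_⟩
      show QuotientGroup.mk' R b = QuotientGroup.mk' R (x : G)
      rw [← hab, map_mul, show QuotientGroup.mk' R a = 1 from (QuotientGroup.eq_one_iff a).2 ha,
        one_mul]
    haveI : Group.IsSolvable ↥((QuotientGroup.mk' R).comp N.subtype).range :=
      Group.isSolvable_of_surjective (f := ((QuotientGroup.mk' R).comp N.subtype).rangeRestrict)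
        (MonoidHom.rangeRestrict_surjective _)
    haveI : Group.IsSolvable ↥f.range :=
      Group.isSolvable_of_isSolvable_injective (Subgroup.inclusion_injective hrange)
    refine Group.isSolvable_of_ker_le_range (Subgroup.inclusion hle) f.rangeRestrict ?_
    intro x hx
    rw [MonoidHom.ker_rangeRestrict, MonoidHom.mem_ker] at hx
    exact ⟨⟨x, (QuotientGroup.eq_one_iff _).1 hx⟩, rfl⟩
  have := hR.eq_of_le ⟨inferInstance, inferInstance⟩ hle
  exact le_sup_right.trans this.ge

/-- In a group with prime power element orders, commuting elements of different prime power orders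
are trivial. -/
theorem eq_one_of_commute (h : CP G) {a v : G} {r p k : ℕ} (hr : r.Prime) (hp : p.Prime)
    (hrp : r ≠ p) (ha : orderOf a = r) (hv : orderOf v = p ^ k) (hc : Commute a v) : v = 1 := by
  by_contra hv1
  have hk : k ≠ 0 := fun h0 => hv1 (orderOf_eq_one_iff.1 (by rw [hv, h0, pow_zero]))
  have ho : orderOf (v ^ (orderOf v / p)) = p :=
    orderOf_pow_orderOf_div (orderOf_pos v).ne' (hv ▸ dvd_pow_self p hk)
  exact hrp (h.eq_of_commute hr hp ha ho (hc.pow_right _))

theorem exists_pow_of_dvd (h : CP G) {g : G} {r : ℕ} (hr : r.Prime) (hd : r ∣ orderOf g) :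
    ∃ k, 0 < k ∧ orderOf g = r ^ k := by
  have hg : g ≠ 1 := by
    rintro rfl
    rw [orderOf_one, Nat.dvd_one] at hd
    exact hr.ne_one hd
  obtain ⟨s, k, hs, hk, hsk⟩ := h g hg
  have hsp := Nat.prime_iff.2 hs
  rw [← hsk] at hd
  have := (Nat.prime_dvd_prime_iff_eq hr hsp).1 (hr.dvd_of_dvd_pow hd)
  subst this
  exact ⟨k, hk, hsk.symm⟩

/-- Lifts of elements of prime order `r` through a `p`-subgroup, `p ≠ r`, have order `r`. -/
theorem orderOf_lift (h : CP G) {R : Subgroup G} [R.Normal] {p : ℕ} (hRp : IsPGroup p R)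
    (hp : p.Prime) {r : ℕ} (hr : r.Prime) (hrp : r ≠ p) {g : G}
    (hg : orderOf (QuotientGroup.mk' R g) = r) : orderOf g = r := by
  have hd : r ∣ orderOf g := hg ▸ orderOf_map_dvd _ g
  obtain ⟨k, hk, hgk⟩ := exists_pow_of_dvd h hr hd
  haveI := Fact.mk hp
  have hmem : g ^ r ∈ R := by
    have := pow_orderOf_eq_one (QuotientGroup.mk' R g)
    rw [hg, ← map_pow] at this
    exact (QuotientGroup.eq_one_iff _).1 this
  obtain ⟨j, hj⟩ := (IsPGroup.iff_orderOf.1 hRp) ⟨g ^ r, hmem⟩
  rw [Subgroup.orderOf_mk] at hj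
  have h1 : g ^ r = 1 := by
    rw [← orderOf_eq_one_iff]
    refine Nat.eq_one_of_dvd_coprimes (Nat.Coprime.pow k j ((Nat.coprime_primes hr hp).2 hrp))
      ?_ (dvd_of_eq hj)
    exact hgk ▸ orderOf_pow_dvd r
  exact Nat.dvd_antisymm (orderOf_dvd_of_pow_eq_one h1) hd

/-- If the solvable radical is a nontrivial `p`-group for odd `p`, then involutions are central
modulo the radical. -/
theorem central_of_odd_radical (h : CP G) (R : Subgroup G) [R.Normal] [Group.IsSolvable R]
    (hRmax : ∀ N : Subgroup G, N.Normal → Group.IsSolvable N → N ≤ R)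
    {p : ℕ} (hp : p.Prime) (hp2 : p ≠ 2) (hRp : IsPGroup p R) (hR : R ≠ ⊥)
    {z : G ⧸ R} (hz : orderOf z = 2) : z ∈ center (G ⧸ R) := by
  haveI := Fact.mk hp
  obtain ⟨V, hVn, hV0, hVR, hVmin⟩ := Solvable.exists_minimal_normal_le R hR
  haveI := hVn
  haveI : Group.IsSolvable V :=
    Group.isSolvable_of_isSolvable_injective (Subgroup.inclusion_injective hVR)
  haveI hVc := Solvable.isMulCommutative_of_minimal_normal V hV0 hVmin
  obtain ⟨g, rfl⟩ := QuotientGroup.mk'_surjective R z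
  -- every lift of an involution inverts `V`
  have hinv : ∀ g : G, orderOf (QuotientGroup.mk' R g) = 2 → ∀ v ∈ V, g * v * g⁻¹ = v⁻¹ := by
    intro g hg v hv
    have hgo := orderOf_lift h hRp hp Nat.prime_two (fun e => hp2 e.symm) hg
    have hgg : g * g = 1 := by rw [← pow_two, ← hgo, pow_orderOf_eq_one]
    have hgi : g⁻¹ = g := inv_eq_of_mul_eq_one_right hgg
    have hw : v * (g * v * g⁻¹) ∈ V := mul_mem hv (hVn.conj_mem v hv g)
    have hcomm : Commute g (v * (g * v * g⁻¹)) := by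
      have hab : v * (g * v * g⁻¹) = (g * v * g⁻¹) * v :=
        congrArg Subtype.val (hVc.is_comm.comm ⟨v, hv⟩ ⟨_, hVn.conj_mem v hv g⟩)
      show g * (v * (g * v * g⁻¹)) = v * (g * v * g⁻¹) * g
      conv_rhs => rw [hab]
      rw [hgi]
      calc g * (v * (g * v * g)) = g * v * g * v * g := by group
        _ = _ := rfl
    obtain ⟨k, hk⟩ := (IsPGroup.iff_orderOf.1 hRp) ⟨_, hVR hw⟩
    rw [Subgroup.orderOf_mk] at hk
    have := eq_one_of_commute h Nat.prime_two hp (fun e => hp2 e.symm) hgo hk hcomm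
    exact eq_inv_of_mul_eq_one_right this
  have hgV := hinv g hz
  rw [Subgroup.mem_center_iff]
  intro y
  obtain ⟨x, rfl⟩ := QuotientGroup.mk'_surjective R y
  -- the commutator centralises `V`, hence lies in the radical
  have hxV : ∀ v ∈ V, (x * g * x⁻¹) * v * (x * g * x⁻¹)⁻¹ = v⁻¹ := by
    refine hinv _ ?_
    rw [map_mul, map_mul, map_inv, ← MulAut.conj_apply, MulEquiv.orderOf_eq, hz]
  have hc : ∀ v ∈ V, Commute (g * (x * g * x⁻¹)) v := by
    intro v hv
    have h1 := hgV _ (inv_mem hv)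
    have h2 := hxV v hv
    rw [inv_inv] at h1
    have h3 : (g * (x * g * x⁻¹)) * v * (g * (x * g * x⁻¹))⁻¹ = v := by
      calc _ = g * ((x * g * x⁻¹) * v * (x * g * x⁻¹)⁻¹) * g⁻¹ := by group
        _ = _ := by rw [h2, h1]
    exact mul_inv_eq_iff_eq_mul.1 h3
  set C := centralizer (V : Set G) with hC
  obtain ⟨v, hv, hv1⟩ := (Subgroup.bot_or_exists_ne_one V).resolve_left hV0
  obtain ⟨k, hk⟩ := (IsPGroup.iff_orderOf.1 hRp) ⟨v, hVR hv⟩
  rw [Subgroup.orderOf_mk] at hk
  have hk0 : k ≠ 0 := fun h0 => hv1 (orderOf_eq_one_iff.1 (by rw [hk, h0, pow_zero]))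
  have hw : orderOf (v ^ (orderOf v / p)) = p :=
    orderOf_pow_orderOf_div (orderOf_pos v).ne' (hk ▸ dvd_pow_self p hk0)
  have hCp : IsPGroup p C := (h.isPGroup_centralizer hp hw).to_le
    (centralizer_le (Set.singleton_subset_iff.2 (pow_mem hv _)))
  haveI : Group.IsNilpotent C := hCp.isNilpotent
  have hCR : C ≤ R := hRmax C inferInstance inferInstance
  have hmem : g * (x * g * x⁻¹) ∈ R :=
    hCR (Subgroup.mem_centralizer_iff.2 fun w hw => (hc w hw).eq.symm)
  have h1 := (QuotientGroup.eq_one_iff _).2 hmem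
  change QuotientGroup.mk' R (g * (x * g * x⁻¹)) = 1 at h1
  rw [map_mul, map_mul, map_mul, map_inv] at h1
  have hgg : QuotientGroup.mk' R g * QuotientGroup.mk' R g = 1 := by
    rw [← pow_two, ← hz, pow_orderOf_eq_one]
  have h2 := mul_left_cancel (h1.trans hgg.symm)
  exact (mul_inv_eq_iff_eq_mul.1 h2)

/-- A Frobenius group of order `r * s` over a nontrivial `p`-radical is impossible. -/
theorem false_of_frobenius (h : CP G) (R : Subgroup G) [R.Normal] [Group.IsSolvable R] {p : ℕ}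
    (hp : p.Prime) (hRp : IsPGroup p R) (hR : R ≠ ⊥) {r s : ℕ} (hr : r.Prime) (hs : s.Prime)
    (hrp : r ≠ p) (hsp : s ≠ p) (hrs : r ≠ s) {a b : G ⧸ R} (ha : orderOf a = r)
    (hb : orderOf b = s) (hab : b * a * b⁻¹ ∈ zpowers a) : False := by
  haveI := Fact.mk hp
  haveI := Fact.mk hr
  obtain ⟨V, hVn, hV0, hVR, hVmin⟩ := Solvable.exists_minimal_normal_le R hR
  haveI := hVn
  haveI : Group.IsSolvable V :=
    Group.isSolvable_of_isSolvable_injective (Subgroup.inclusion_injective hVR)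
  haveI := Solvable.isMulCommutative_of_minimal_normal V hV0 hVmin
  obtain ⟨a, rfl⟩ := QuotientGroup.mk'_surjective R a
  obtain ⟨b0, rfl⟩ := QuotientGroup.mk'_surjective R b
  have hao := orderOf_lift h hRp hp hr hrp ha
  -- adjust the lift of `b` so that it normalises `⟨a⟩`
  set A := zpowers a ⊔ R with hA
  have hmemA : ∀ g, QuotientGroup.mk' R g ∈ zpowers (QuotientGroup.mk' R a) → g ∈ A := by
    intro g hg
    obtain ⟨i, hi⟩ := hg
    have : (a ^ i)⁻¹ * g ∈ R := by
      rw [← QuotientGroup.eq_one_iff]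
      show QuotientGroup.mk' R ((a ^ i)⁻¹ * g) = 1
      rw [map_mul, map_inv, map_zpow, ← hi, inv_mul_cancel]
    have := mul_mem (Subgroup.mem_sup_left (T := R) (zpow_mem (mem_zpowers a) i))
      (Subgroup.mem_sup_right (S := zpowers a) this)
    rwa [mul_inv_cancel_left] at this
  have hz : b0 * a * b0⁻¹ ∈ A := hmemA _ (by rw [map_mul, map_mul, map_inv]; exact hab)
  have hidx : ¬ r ∣ ((zpowers a).subgroupOf A).index := by
    intro hd
    have h1 : (zpowers a).relIndex A ∣ Nat.card R := by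
      have e1 := Subgroup.relIndex_mul_relIndex ⊥ (zpowers a) A bot_le le_sup_left
      have e2 := Subgroup.relIndex_mul_relIndex ⊥ R A bot_le le_sup_right
      have e3 : R.relIndex A ∣ r := by
        rw [hA, Subgroup.relIndex_sup_right, ← hao, ← Nat.card_zpowers]
        exact Subgroup.relIndex_dvd_card _ _
      rw [Subgroup.relIndex_bot_left, Nat.card_zpowers, hao] at e1
      rw [Subgroup.relIndex_bot_left] at e2
      refine (Nat.mul_dvd_mul_iff_left hr.pos).1 ?_
      rw [e1, ← e2, mul_comm r]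
      exact Nat.mul_dvd_mul_left _ e3
    obtain ⟨m, hm⟩ := (IsPGroup.iff_card.1 hRp)
    exact hrp ((Nat.prime_dvd_prime_iff_eq hr hp).1 (hr.dvd_of_dvd_pow (hm ▸ hd.trans h1)))
  have hPa : IsPGroup r ↥((zpowers a).subgroupOf A) :=
    (IsPGroup.of_card (n := 1) (by rw [Nat.card_zpowers, hao, pow_one])).of_equiv
      (Subgroup.subgroupOfEquivOfLe (le_sup_left : zpowers a ≤ A)).symm
  have hPz : IsPGroup r ↥(zpowers (⟨b0 * a * b0⁻¹, hz⟩ : A)) :=
    IsPGroup.of_card (n := 1) (by
      rw [Nat.card_zpowers, Subgroup.orderOf_mk, Involution.orderOf_conj, hao, pow_one])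
  obtain ⟨Q, hQ⟩ := hPz.exists_le_sylow
  obtain ⟨w, hw⟩ := MulAction.exists_smul_eq A Q (hPa.toSylow hidx)
  have hw' : (w : G) * (b0 * a * b0⁻¹) * (w : G)⁻¹ ∈ zpowers a := by
    have h1 : MulAut.conj w (⟨b0 * a * b0⁻¹, hz⟩ : A) ∈ (hPa.toSylow hidx : Subgroup A) := by
      rw [← hw, Sylow.coe_subgroup_smul]
      exact Subgroup.smul_mem_pointwise_smul _ (MulAut.conj w) _ (hQ (mem_zpowers _))
    exact h1
  obtain ⟨c, hc, ρ, hρ, hcρ⟩ := Subgroup.mem_sup_of_normal_right.1 w.2
  set b := ρ * b0 with hbdef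
  have hbim : QuotientGroup.mk' R b = QuotientGroup.mk' R b0 := by
    rw [hbdef, map_mul, show QuotientGroup.mk' R ρ = 1 from (QuotientGroup.eq_one_iff ρ).2 hρ,
      one_mul]
  have hbo := orderOf_lift h hRp hp hs hsp (g := b) (by rw [hbim]; exact hb)
  have hbn : b ∈ normalizer (zpowers a : Set G) := by
    have h1 : b * a * b⁻¹ ∈ zpowers a := by
      have h2 := mul_mem (mul_mem (inv_mem hc) hw') hc
      have : c⁻¹ * ((w : G) * (b0 * a * b0⁻¹) * (w : G)⁻¹) * c = b * a * b⁻¹ := by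
        rw [hbdef, ← hcρ]; group
      rwa [this] at h2
    have hmap : (zpowers a).map (MulAut.conj b).toMonoidHom = zpowers a := by
      refine Subgroup.eq_of_le_of_card_ge ?_ ?_
      · rw [MonoidHom.map_zpowers]
        exact (zpowers_le).2 h1
      · rw [Subgroup.card_map_of_injective (MulAut.conj b).injective]
    rw [Subgroup.mem_normalizer_iff]
    intro y
    constructor
    · intro hy
      rw [← hmap]
      exact ⟨y, hy, rfl⟩
    · intro hy
      rw [← hmap] at hy
      obtain ⟨y', hy', he⟩ := hy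
      have : y' = y := (MulAut.conj b).injective he
      rwa [← this]
  have hVcard : ∀ v ∈ V, ∃ k, orderOf v = p ^ k := fun v hv => by
    obtain ⟨k, hk⟩ := (IsPGroup.iff_orderOf.1 hRp) ⟨v, hVR hv⟩
    exact ⟨k, by rw [← hk, Subgroup.orderOf_mk]⟩
  refine hV0 (S1475.no_fixed_point_free_meta hs hbo hbn ?_ ?_ ?_ ?_ ?_)
  · obtain ⟨n, hn⟩ := IsPGroup.iff_card.1 (hRp.to_le hVR)
    rw [Nat.card_zpowers, hao, hn]
    exact Nat.Coprime.pow_right n ((Nat.coprime_primes hr hp).2 hrp)
  · rw [ne_eq, zpowers_eq_bot]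
    exact fun e => hr.ne_one (by rw [← hao, e, orderOf_one])
  · intro v hv hall
    obtain ⟨k, hk⟩ := hVcard v hv
    exact eq_one_of_commute h hr hp hrp hao hk (hall a (mem_zpowers a))
  · intro v hv m _ hcomm
    obtain ⟨k, hk⟩ := hVcard v hv
    exact eq_one_of_commute h hs hp hsp (by rw [Involution.orderOf_conj, hbo]) hk hcomm
  · intro m hm j hj hjs hcomm
    have hjo : orderOf (b ^ j) = s := by
      rw [Nat.Coprime.orderOf_pow, hbo]
      rw [hbo]
      exact (hs.coprime_iff_not_dvd).2 fun hd => absurd (Nat.le_of_dvd hj hd) (by omega)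
    obtain ⟨i, -, hi⟩ := (Nat.dvd_prime_pow hr).1
      (show orderOf m ∣ r ^ 1 by rw [pow_one, ← hao]; exact orderOf_dvd_of_mem_zpowers hm)
    exact eq_one_of_commute h hs hr hrs.symm hjo hi hcomm

end Cfsg.Agent.EPPO42
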