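import Cfsg.Agent.EPPO42.Seven
import Cfsg.Agent.Lib.Frobenius.Nilpotent

/-!
# The socle of a group with prime power element orders
-/

set_option autoImplicit false
set_option linter.style.haveILetI false
set_option linter.unusedSectionVars false

open Subgroup

namespace Cfsg.Agent.EPPO42

open Cfsg.Agent.S3992

universe u

variable {Q : Type u} [Group Q] [Finite Q]

/-- Every prime divisor of the group order divides the order of a non-abelian simple normal subgroup. -/
theorem prime_dvd_card_socle (h : CP Q) (M : Subgroup Q) [M.Normal] [IsSimpleGroup M]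
    (hM : ¬ IsMulCommutative M) {r : ℕ} (hr : r.Prime) (hd : r ∣ Nat.card Q) : r ∣ Nat.card M := by
  by_contra hrM
  haveI := Fact.mk hr
  obtain ⟨y, hy⟩ := exists_prime_orderOf_dvd_card' (G := Q) r hd
  have hφ : ∀ g : M, (MulAut.conjNormal y : MulAut M) g = g → g = 1 := by
    intro g hg
    by_contra hg1
    have hg' : y * (g : Q) * y⁻¹ = g := by
      have := congrArg (Subtype.val) hg
      rwa [MulAut.conjNormal_apply] at this
    have hc : Commute y (g : Q) := mul_inv_eq_iff_eq_mul.1 hg'
    obtain ⟨s, k, hs, hk, hsk⟩ := h (g : Q) fun e => hg1 (Subtype.ext e)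
    have hsp := Nat.prime_iff.2 hs
    have hsM : s ∣ Nat.card M := by
      have h1 : s ^ k ∣ Nat.card M := by
        rw [hsk, Subgroup.orderOf_coe]
        exact orderOf_dvd_natCard g
      exact (dvd_pow_self s hk.ne').trans h1
    have := eq_one_of_commute h hr hsp (fun e => hrM (e ▸ hsM)) hy hsk.symm hc
    exact hg1 (Subtype.ext this)
  have hpow : (MulAut.conjNormal y : MulAut M) ^ r = 1 := by
    rw [← map_pow, ← hy, pow_orderOf_eq_one, map_one]
  haveI := Frobenius.isNilpotent_of_fixedPointFree M _ hφ hr hpow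
  haveI : Group.IsSolvable M := inferInstance
  exact hM ⟨⟨IsSimpleGroup.comm_iff_isSolvable.2 inferInstance⟩⟩

theorem primeFactors_subset_socle (h : CP Q) (M : Subgroup Q) [M.Normal] [IsSimpleGroup M]
    (hM : ¬ IsMulCommutative M) : (Nat.card Q).primeFactors ⊆ (Nat.card M).primeFactors := by
  intro r hr
  rw [Nat.mem_primeFactors] at hr ⊢
  exact ⟨hr.1, prime_dvd_card_socle h M hM hr.1 hr.2.1, Nat.card_pos.ne'⟩

/-- The order of the normaliser of a subgroup of prime order `r`, when `r` divides the order exactly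
once. -/
theorem card_normalizer_of_exact (h : CP Q) {r : ℕ} (hr : r.Prime) {a : Q} (ha : orderOf a = r)
    (hr2 : ¬ r ^ 2 ∣ Nat.card Q) :
    Nat.card ↥(normalizer (zpowers a : Set Q)) = r * ((Nat.card Q / r) % r) := by
  haveI := Fact.mk hr
  have hP : IsPGroup r ↥(zpowers a) := IsPGroup.of_card (n := 1) (by rw [Nat.card_zpowers, ha, pow_one])
  have h1 := (zpowers a).card_mul_index
  rw [Nat.card_zpowers, ha] at h1
  have hidx : ¬ r ∣ (zpowers a).index := fun hd =>
    hr2 (by rw [pow_two, ← h1]; exact Nat.mul_dvd_mul_left r hd)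
  have hn := Sylow.card_eq_index_normalizer (hP.toSylow hidx)
  have h3 := card_sylow_modEq_one r Q
  rw [hn] at h3
  obtain ⟨i, hi⟩ := card_normalizer_dvd h hr ha
  set N := normalizer (zpowers a : Set Q) with hN
  change N.index ≡ 1 [MOD r] at h3
  have hNc := N.card_mul_index
  have hrN : r ∣ Nat.card N := by
    rw [← ha]
    exact Subgroup.orderOf_dvd_natCard _ (Subgroup.le_normalizer (mem_zpowers a))
  obtain ⟨k, hk⟩ := hrN
  have hQ : Nat.card Q / r = k * N.index := by
    rw [← hNc, hk, mul_assoc, Nat.mul_div_cancel_left _ hr.pos]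
  have hkdvd : k ∣ r - 1 := by
    have hkr : ¬ r ∣ k := fun hd => hr2 (by
      rw [← hNc, hk, pow_two]
      exact dvd_mul_of_dvd_left (Nat.mul_dvd_mul_left r hd) _)
    refine (Nat.Coprime.pow_right i ((hr.coprime_iff_not_dvd).2 hkr).symm).dvd_of_dvd_mul_left ?_
    exact (dvd_mul_left k r).trans (hk ▸ hi)
  have hkr : k < r := by
    have := Nat.le_of_dvd (by have := hr.two_le; omega) hkdvd
    have := hr.two_le
    omega
  have hmod : (Nat.card Q / r) % r = k := by
    rw [hQ, Nat.mul_mod, show N.index % r = 1 % r from h3, Nat.mod_eq_of_lt hr.one_lt, mul_one,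
      Nat.mod_mod, Nat.mod_eq_of_lt hkr]
  rw [hk, hmod]

/-- The Frattini argument for the normaliser of a Sylow subgroup of prime order. -/
theorem index_mul_card_normalizer_dvd (M : Subgroup Q) [M.Normal] {r : ℕ} (hr : r.Prime) {x : M}
    (hx : orderOf x = r) (hidx : ¬ r ∣ (zpowers x).index) :
    M.index * Nat.card ↥(normalizer (zpowers x : Set M)) ∣
      Nat.card ↥(normalizer (zpowers (x : Q) : Set Q)) := by
  haveI := Fact.mk hr
  have hP : IsPGroup r ↥(zpowers x) := IsPGroup.of_card (n := 1) (by rw [Nat.card_zpowers, hx, pow_one])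
  have hsup := Sylow.normalizer_sup_eq_top (hP.toSylow hidx)
  have hmap : ((hP.toSylow hidx : Subgroup M)).map M.subtype = zpowers (x : Q) :=
    MonoidHom.map_zpowers _ _
  rw [hmap] at hsup
  set N := normalizer (zpowers (x : Q) : Set Q) with hNdef
  have e1 : M.relIndex N = M.index := by
    rw [← Subgroup.relIndex_sup_right, hsup, Subgroup.relIndex_top_right]
  have e2 : Nat.card ↥(normalizer (zpowers x : Set M)) = Nat.card ↥(M.subgroupOf N) := by
    rw [← Subgroup.card_map_of_injective M.subtype_injective,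
      ← Subgroup.card_map_of_injective N.subtype_injective, Subgroup.subgroupOf_map_subtype]
    congr 1
    congr 1
    ext y
    constructor
    · rintro ⟨y, hy, rfl⟩
      refine ⟨y.2, ?_⟩
      rw [hNdef, show zpowers (x : Q) = (zpowers x).map M.subtype from (MonoidHom.map_zpowers M.subtype x).symm]
      exact Subgroup.le_normalizer_map _ ⟨y, hy, rfl⟩
    · rintro ⟨hyM, hy⟩
      refine ⟨⟨y, hyM⟩, Subgroup.mem_normalizer_iff.2 fun z => ?_, rfl⟩
      have := Subgroup.mem_normalizer_iff.1 hy z
      rw [show zpowers (x : Q) = (zpowers x).map M.subtype from (MonoidHom.map_zpowers M.subtype x).symm] at this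
      constructor
      · intro hz
        obtain ⟨w, hw, he⟩ := this.1 ⟨z, hz, rfl⟩
        have : w = ⟨y, hyM⟩ * z * ⟨y, hyM⟩⁻¹ := M.subtype_injective he
        rwa [← this]
      · intro hz
        obtain ⟨w, hw, he⟩ := this.2 ⟨_, hz, rfl⟩
        have : w = z := M.subtype_injective he
        rwa [← this]
  rw [← e1, e2, Subgroup.relIndex, mul_comm, Subgroup.card_mul_index]

/-- The automiser of a subgroup of prime order is cyclic of prime power order. -/
theorem card_normalizer_eq (h : CP Q) {r : ℕ} (hr : r.Prime) {a : Q} (ha : orderOf a = r) :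
    ∃ i d : ℕ, Nat.card ↥(normalizer (zpowers a : Set Q)) = r ^ i * d ∧ d ∣ r - 1 ∧
      (d = 1 ∨ IsPrimePow d) := by
  haveI := Fact.mk hr
  set φ := (zpowers a).normalizerMonoidHom with hφ
  have hker : IsPGroup r φ.ker := by
    rw [hφ, Subgroup.normalizerMonoidHom_ker]
    have hC : IsPGroup r ↥(centralizer (zpowers a : Set Q)) :=
      (h.isPGroup_centralizer hr ha).to_le
        (centralizer_le (Set.singleton_subset_iff.2 (mem_zpowers a)))
    exact hC.comap_of_injective _ (normalizer (zpowers a : Set Q)).subtype_injective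
  obtain ⟨i, hi⟩ := IsPGroup.iff_card.1 hker
  refine ⟨i, φ.ker.index, by rw [← hi, Subgroup.card_mul_index], ?_, ?_⟩
  · rw [Subgroup.index_ker]
    refine (Subgroup.card_subgroup_dvd_card _).trans ?_
    haveI : IsCyclic ↥(zpowers a) := inferInstance
    have hc : Nat.card ↥(zpowers a) = r := by rw [Nat.card_zpowers, ha]
    rw [IsCyclic.card_mulAut, hc, Nat.totient_prime hr]
  · rw [Subgroup.index_ker]
    have hc : Nat.card ↥(zpowers a) = r := by rw [Nat.card_zpowers, ha]
    haveI : IsCyclic (MulAut ↥(zpowers a)) := by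
      haveI : IsCyclic (ZMod r)ˣ := inferInstance
      haveI : IsCyclic (ZMod (Nat.card ↥(zpowers a)))ˣ := by rw [hc]; infer_instance
      exact isCyclic_of_surjective _ (IsCyclic.mulAutMulEquiv ↥(zpowers a)).symm.surjective
    haveI : IsCyclic φ.range := inferInstance
    obtain ⟨y, hg⟩ := IsCyclic.exists_generator (α := φ.range)
    obtain ⟨g, hgy⟩ := y.2
    have ho : orderOf (φ g) = Nat.card φ.range := by
      rw [hgy, Subgroup.orderOf_coe]
      exact orderOf_eq_card_of_forall_mem_zpowers hg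
    have hd : Nat.card φ.range ∣ orderOf (g : Q) := by
      rw [← ho, Subgroup.orderOf_coe]
      exact orderOf_map_dvd φ g
    by_cases h1 : Nat.card φ.range = 1
    · exact Or.inl h1
    · right
      obtain ⟨s, k, hs, hk, hsk⟩ := h (g : Q) fun e => h1 (by
        rw [e, orderOf_one] at hd
        exact Nat.dvd_one.1 hd)
      obtain ⟨j, -, hj⟩ := (Nat.dvd_prime_pow (Nat.prime_iff.2 hs)).1 (hsk ▸ hd)
      refine ⟨s, j, hs, Nat.pos_of_ne_zero fun e => h1 (by rw [hj, e, pow_zero]), hj.symm⟩

/-- Bound on the index of a simple normal subgroup through the normaliser of a subgroup of order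
`r`. -/
theorem index_mul_dvd (h : CP Q) (M : Subgroup Q) [M.Normal] {r k s a c : ℕ} (hr : r.Prime)
    (hrM : r ∣ Nat.card M) (hr2 : ¬ r ^ 2 ∣ Nat.card M) (hk : (Nat.card M / r) % r = k)
    (hs : s.Prime) (hsk : s ∣ k) (hrs : r - 1 = s ^ a * c) (hc : ¬ s ∣ c) :
    ∃ i, M.index * k ∣ r ^ i * s ^ a := by
  haveI := Fact.mk hr
  have hMcp : CP M := fun g hg => by
    rw [← Subgroup.orderOf_coe]
    exact h _ fun e => hg (Subtype.ext e)
  obtain ⟨x, hx⟩ := exists_prime_orderOf_dvd_card' (G := M) r hrM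
  have hidx : ¬ r ∣ (zpowers x).index := fun hd => by
    apply hr2
    rw [← (zpowers x).card_mul_index, Nat.card_zpowers, hx, pow_two]
    exact Nat.mul_dvd_mul_left r hd
  have h1 := index_mul_card_normalizer_dvd M hr hx hidx
  rw [card_normalizer_of_exact hMcp hr hx hr2, hk] at h1
  obtain ⟨i, d, hN, hd, hd'⟩ := card_normalizer_eq h hr
    (show orderOf (x : Q) = r by rw [Subgroup.orderOf_coe, hx])
  rw [hN] at h1
  refine ⟨i, ((Nat.mul_dvd_mul_left M.index (dvd_mul_left k r)).trans h1).trans
    (Nat.mul_dvd_mul_left _ ?_)⟩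
  have hsd : s ∣ d := by
    have h2 : s ∣ r ^ i * d :=
      (hsk.trans ((dvd_mul_left k r).trans (dvd_mul_left _ M.index))).trans h1
    refine (hs.dvd_mul.1 h2).resolve_left fun h3 => ?_
    have h4 := (Nat.prime_dvd_prime_iff_eq hs hr).1 (hs.dvd_of_dvd_pow h3)
    have h5 : s ∣ k := hsk
    subst h4
    have hklt : k < s := hk ▸ Nat.mod_lt _ hs.pos
    rcases Nat.eq_zero_or_pos k with h0 | h0
    · rw [← hk] at h0
      exact hr2 (by
        obtain ⟨t, ht⟩ := hrM
        rw [ht, Nat.mul_div_cancel_left _ hs.pos] at h0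
        rw [ht, pow_two]
        exact Nat.mul_dvd_mul_left s (Nat.dvd_of_mod_eq_zero h0))
    · exact absurd (Nat.le_of_dvd h0 h5) (by omega)
  rcases hd' with rfl | ⟨t, j, ht, hj, rfl⟩
  · exact absurd (Nat.dvd_one.1 hsd) hs.ne_one
  · have := (Nat.prime_dvd_prime_iff_eq hs (Nat.prime_iff.2 ht)).1 (hs.dvd_of_dvd_pow hsd)
    subst this
    have hco : Nat.Coprime (s ^ j) c := Nat.Coprime.pow_left _ ((hs.coprime_iff_not_dvd).2 hc)
    exact hco.dvd_of_dvd_mul_right (hrs ▸ hd)

end Cfsg.Agent.EPPO42
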