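import Cfsg.Agent.EPPO42.Simple
import Cfsg.Agent.EPPO42.Socle
import Cfsg.Agent.CIT.PlaneL34
import Cfsg.Agent.Lib.Suzuki.Group
import Cfsg.Agent.PF14.Compose

/-!
# Groups with prime power element orders have at most four prime divisors
-/

set_option autoImplicit false
set_option linter.style.haveILetI false
set_option linter.unusedSectionVars false

open Subgroup

namespace Cfsg.Agent.EPPO42

open Cfsg.Agent.S3992

universe u

theorem card_primeFactors_le_of_prod {n : ℕ} (_hn : n ≠ 0) (l : List (ℕ × ℕ))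
    (hl : ∀ x ∈ l, x.1.Prime) (he : n = (l.map fun x => x.1 ^ x.2).prod) :
    n.primeFactors.card ≤ l.length := by
  have hsub : n.primeFactors ⊆ (l.map Prod.fst).toFinset := by
    intro q hq
    rw [Nat.mem_primeFactors] at hq
    obtain ⟨hqp, hd, -⟩ := hq
    rw [he] at hd
    obtain ⟨y, hy, hqy⟩ := (Prime.dvd_prod_iff (Nat.prime_iff.1 hqp)).1 hd
    obtain ⟨x, hx, rfl⟩ := List.mem_map.1 hy
    have := (Nat.prime_dvd_prime_iff_eq hqp (hl x hx)).1 (hqp.dvd_of_dvd_pow hqy)
    simp only [List.mem_toFinset, List.mem_map]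
    exact ⟨x, hx, this.symm⟩
  exact ((Finset.card_le_card hsub).trans (List.toFinset_card_le _)).trans (by simp)

/-- The orders of the simple groups with prime power element orders. -/
theorem card_simple (hCIT : CITIso.{u}) {M : Type u} [Group M] [Finite M] [IsSimpleGroup M]
    (hM : ∃ a b : M, a * b ≠ b * a) (h : CP M) :
    (Nat.card M).primeFactors.card ≤ 3 ∨
    (Nat.card M = 20160 ∧ ∃ (F : Type) (_ : Field F) (_ : Fintype F), Fintype.card F = 4 ∧
      Nonempty (M ≃* Matrix.ProjectiveSpecialLinearGroup (Fin 3) F)) ∨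
    ((Nat.card M = 29120 ∨ Nat.card M = 32537600) ∧
      ∃ (F : Type) (_ : Field F) (_ : Fintype F),
        (Fintype.card F = 8 ∧ Nonempty (M ≃* ↥(Cfsg.Lie.Sz F 4))) ∨
        (Fintype.card F = 32 ∧ Nonempty (M ≃* ↥(Cfsg.Lie.Sz F 8)))) := by
  classical
  have three : ∀ (n a b c r : ℕ), r.Prime → n = 2 ^ a * (3 ^ b * r ^ c) → n.primeFactors.card ≤ 3 := by
    intro n a b c r hr he
    have hn : n ≠ 0 := by rw [he]; have := hr.pos; positivity
    refine card_primeFactors_le_of_prod hn [(2, a), (3, b), (r, c)] ?_ (by simp [he])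
    simp [Nat.prime_two, Nat.prime_three, hr]
  rcases eppo_simple hCIT hM h with ⟨⟨e⟩⟩ | ⟨F, iF, iFF, hF, ⟨e⟩⟩ | ⟨F, iF, iFF, hF, ⟨e⟩⟩ |
    ⟨F, iF, iFF, hSz⟩
  · left
    refine three _ 3 2 1 5 Nat.prime_five ?_
    rw [Nat.card_congr e.toEquiv, nat_card_alternatingGroup, Nat.card_fin]
    decide
  · left
    have hc := LinearGroup.gcd_mul_card_PSL_two (F := F)
    rw [← Nat.card_congr e.toEquiv, Nat.card_eq_fintype_card (α := F)] at hc
    simp only [Finset.mem_insert, Finset.mem_singleton] at hF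
    rcases hF with hF | hF | hF | hF <;> rw [hF] at hc <;> norm_num at hc
    · exact three _ 2 1 1 5 Nat.prime_five (by omega)
    · exact three _ 3 1 1 7 (by norm_num) (by omega)
    · exact three _ 3 2 1 7 (by norm_num) (by omega)
    · exact three _ 4 2 1 17 (by norm_num) (by omega)
  · exact Or.inr (Or.inl ⟨by rw [Nat.card_congr e.toEquiv, CIT.PlaneL34.card_PSL hF], F, iF, iFF, hF, ⟨e⟩⟩)
  · refine Or.inr (Or.inr ⟨?_, F, iF, iFF, hSz⟩)
    rcases hSz with ⟨hF, ⟨e⟩⟩ | ⟨hF, ⟨e⟩⟩
    · left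
      have hF' : Fintype.card F = 2 ^ (2 * 1 + 1) := by rw [hF]; norm_num
      have e' : M ≃* Cfsg.Sz F 1 := e.trans (RankOne.SzBridge.szEquiv hF' le_rfl).symm
      rw [Nat.card_congr e'.toEquiv, Suzuki.card_Sz hF' le_rfl]
      norm_num
    · right
      have hF' : Fintype.card F = 2 ^ (2 * 2 + 1) := by rw [hF]; norm_num
      have e' : M ≃* Cfsg.Sz F 2 := e.trans (RankOne.SzBridge.szEquiv hF' (by norm_num)).symm
      rw [Nat.card_congr e'.toEquiv, Suzuki.card_Sz hF' (by norm_num)]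
      norm_num

/-- At most four prime divisors, and the structure in the case of four. -/
theorem four_primes (hCIT : CITIso.{u}) {G : Type u} [Group G] [Finite G] (h : CP G) :
    (Nat.card G).primeFactors.card ≤ 4 ∧
    ((Nat.card G).primeFactors.card = 4 →
      (∃ (F : Type) (_ : Field F) (_ : Fintype F), Fintype.card F = 4 ∧
        Nonempty (G ≃* Matrix.ProjectiveSpecialLinearGroup (Fin 3) F)) ∨
      (∃ (N : Subgroup G) (_ : N.Normal), IsPGroup 2 ↥N ∧
        ∃ (F : Type) (_ : Field F) (_ : Fintype F),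
          (Fintype.card F = 8 ∧ Nonempty (G ⧸ N ≃* ↥(Cfsg.Lie.Sz F 4))) ∨
          (Fintype.card F = 32 ∧ Nonempty (G ⧸ N ≃* ↥(Cfsg.Lie.Sz F 8))))) := by
  classical
  by_cases hns : Group.IsSolvable G
  · have := S1475.result (G := G) fun g => by
      by_cases hg : g = 1
      · exact Or.inr hg
      · exact Or.inl (h g hg)
    exact ⟨by omega, fun h4 => by omega⟩
  obtain ⟨R, hRn, hRs, hRmax⟩ := exists_radical (G := G)
  obtain ⟨⟨p, hp, hRp⟩, ⟨M, hMn, hMs, hMnc, hMmin⟩, -⟩ := S3992.result hns h R hRs hRmax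
  haveI := hRn
  haveI := hRs
  haveI := hMn
  haveI := hMs
  haveI := Fact.mk hp
  haveI := Fact.mk Nat.prime_two
  have hQ : CP (G ⧸ R) := CP.quotient h R
  have hMcp : CP M := fun g hg => by
    rw [← Subgroup.orderOf_coe]
    exact hQ _ fun e => hg (Subtype.ext e)
  have hex : ∃ a b : M, a * b ≠ b * a := by
    by_contra hc
    push Not at hc
    exact hMnc ⟨⟨hc⟩⟩
  have h2 : 2 ∣ Nat.card M := by
    by_contra h2
    haveI := PF14.feitThompson M (Nat.odd_iff.2 (Nat.two_dvd_ne_zero.1 h2))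
    exact hMnc ⟨⟨IsSimpleGroup.comm_iff_isSolvable.2 inferInstance⟩⟩
  -- the radical is a 2-group
  have hR2 : IsPGroup 2 R := by
    by_cases hR : R = ⊥
    · subst hR; exact IsPGroup.of_bot
    by_cases hp2 : p = 2
    · subst hp2; exact hRp
    exfalso
    obtain ⟨z, hz⟩ := exists_prime_orderOf_dvd_card' (G := M) 2 h2
    have hc := central_of_odd_radical h R hRmax hp hp2 hRp hR
      (z := (z : G ⧸ R)) (by rw [Subgroup.orderOf_coe, hz])
    have hzc : z ∈ center M := Subgroup.mem_center_iff.2 fun y =>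
      Subtype.ext (Subgroup.mem_center_iff.1 hc y)
    rcases (inferInstance : (center M).Normal).eq_bot_or_eq_top with h1 | h1
    · rw [h1, mem_bot] at hzc
      rw [hzc, orderOf_one] at hz
      omega
    · exact hMnc ⟨⟨fun x y => Subgroup.mem_center_iff.1 (h1 ▸ Subgroup.mem_top y) x⟩⟩
  have hpf : (Nat.card G).primeFactors ⊆ (Nat.card M).primeFactors := by
    obtain ⟨n, hn⟩ := IsPGroup.iff_card.1 hR2
    rw [R.card_eq_card_quotient_mul_card_subgroup, hn,
      Nat.primeFactors_mul Nat.card_pos.ne' (by positivity)]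
    refine Finset.union_subset (primeFactors_subset_socle hQ M hMnc) fun q hq => ?_
    rw [Nat.mem_primeFactors] at hq ⊢
    obtain ⟨hqp, hd, -⟩ := hq
    rw [(Nat.prime_dvd_prime_iff_eq hqp Nat.prime_two).1 (hqp.dvd_of_dvd_pow hd)]
    exact ⟨Nat.prime_two, h2, Nat.card_pos.ne'⟩
  have htop : ∀ {H : Type} [Group H], M = ⊤ → Nonempty (M ≃* H) → Nonempty (G ⧸ R ≃* H) := by
    intro H _ hT ⟨e⟩
    exact ⟨((Subgroup.topEquiv (G := G ⧸ R)).symm.trans (MulEquiv.subgroupCongr hT.symm)).trans e⟩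
  rcases card_simple hCIT hex hMcp with h3 | ⟨hc, F, iF, iFF, hF, he⟩ | ⟨hc, F, iF, iFF, hSz⟩
  · have := (Finset.card_le_card hpf).trans h3
    exact ⟨by omega, fun h4 => by omega⟩
  · refine ⟨(Finset.card_le_card hpf).trans (card_primeFactors_le_of_prod Nat.card_pos.ne'
      [(2, 6), (3, 2), (5, 1), (7, 1)] (by norm_num) (by rw [hc]; norm_num)), fun _ => Or.inl ?_⟩
    obtain ⟨i, hi⟩ := index_mul_dvd hQ M (r := 7) (k := 3) (s := 3) (a := 1) (c := 2) (by norm_num)
      (by rw [hc]; norm_num) (by rw [hc]; norm_num) (by rw [hc]) Nat.prime_three (dvd_refl 3)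
      (by norm_num) (by norm_num)
    obtain ⟨j, hj⟩ := index_mul_dvd hQ M (r := 5) (k := 2) (s := 2) (a := 2) (c := 1) Nat.prime_five
      (by rw [hc]; norm_num) (by rw [hc]; norm_num) (by rw [hc]) Nat.prime_two (dvd_refl 2)
      (by norm_num) (by norm_num)
    have d7 : M.index ∣ 7 ^ i := Nat.dvd_of_mul_dvd_mul_right (by norm_num : 0 < 3) (by simpa using hi)
    have d5 : M.index ∣ 5 ^ j * 2 :=
      Nat.dvd_of_mul_dvd_mul_right two_pos (by rw [mul_assoc]; exact hj)
    have hMtop : M = ⊤ := Subgroup.index_eq_one.1 (Nat.eq_one_of_dvd_coprimes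
      (Nat.Coprime.mul_right (Nat.Coprime.pow i j (by norm_num)) (Nat.Coprime.pow_left i (by norm_num)))
      d7 d5)
    have hR : R = ⊥ := by
      by_contra hR
      haveI := Fact.mk (by norm_num : Nat.Prime 7)
      haveI := Fact.mk Nat.prime_three
      obtain ⟨a, ha⟩ := exists_prime_orderOf_dvd_card' (G := M) 7 (by rw [hc]; norm_num)
      obtain ⟨b, hb⟩ := exists_prime_orderOf_dvd_card' (G := ↥(normalizer (zpowers a : Set M))) 3
        (by rw [card_normalizer_of_exact hMcp (by norm_num) ha (by rw [hc]; norm_num), hc]; norm_num)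
      have hab : (b : M) * a * (b : M)⁻¹ ∈ zpowers a :=
        (Subgroup.mem_normalizer_iff.1 b.2 a).1 (mem_zpowers a)
      refine false_of_frobenius h R Nat.prime_two hR2 hR (by norm_num : Nat.Prime 7) Nat.prime_three
        (by norm_num) (by norm_num) (by norm_num) (a := (a : G ⧸ R)) (b := ((b : M) : G ⧸ R))
        (by rw [Subgroup.orderOf_coe, ha]) (by rw [Subgroup.orderOf_coe, Subgroup.orderOf_coe, hb]) ?_
      obtain ⟨z, hz⟩ := hab
      exact ⟨z, by simpa using congrArg Subtype.val hz⟩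
    subst hR
    obtain ⟨e⟩ := htop hMtop he
    exact ⟨F, iF, iFF, hF, ⟨(QuotientGroup.quotientBot (G := G)).symm.trans e⟩⟩
  · rcases hc with hc | hc
    · refine ⟨(Finset.card_le_card hpf).trans (card_primeFactors_le_of_prod Nat.card_pos.ne'
        [(2, 6), (5, 1), (7, 1), (13, 1)] (by norm_num) (by rw [hc]; norm_num)), fun _ => Or.inr ?_⟩
      obtain ⟨i, hi⟩ := index_mul_dvd hQ M (r := 13) (k := 4) (s := 2) (a := 2) (c := 3) (by norm_num)
        (by rw [hc]; norm_num) (by rw [hc]; norm_num) (by rw [hc]) Nat.prime_two (by norm_num)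
        (by norm_num) (by norm_num)
      obtain ⟨j, hj⟩ := index_mul_dvd hQ M (r := 7) (k := 2) (s := 2) (a := 1) (c := 3) (by norm_num)
        (by rw [hc]; norm_num) (by rw [hc]; norm_num) (by rw [hc]) Nat.prime_two (dvd_refl 2)
        (by norm_num) (by norm_num)
      have hMtop : M = ⊤ := Subgroup.index_eq_one.1 (Nat.eq_one_of_dvd_coprimes
        (Nat.Coprime.pow i j (by norm_num : Nat.Coprime 13 7))
        (Nat.dvd_of_mul_dvd_mul_right (by norm_num : 0 < 4) (by simpa using hi))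
        (Nat.dvd_of_mul_dvd_mul_right two_pos (by simpa using hj)))
      exact ⟨R, hRn, hR2, F, iF, iFF,
        hSz.imp (And.imp_right (htop hMtop)) (And.imp_right (htop hMtop))⟩
    · refine ⟨(Finset.card_le_card hpf).trans (card_primeFactors_le_of_prod Nat.card_pos.ne'
        [(2, 10), (5, 2), (31, 1), (41, 1)] (by norm_num) (by rw [hc]; norm_num)), fun _ => Or.inr ?_⟩
      obtain ⟨i, hi⟩ := index_mul_dvd hQ M (r := 41) (k := 4) (s := 2) (a := 3) (c := 5) (by norm_num)
        (by rw [hc]; norm_num) (by rw [hc]; norm_num) (by rw [hc]) Nat.prime_two (by norm_num)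
        (by norm_num) (by norm_num)
      obtain ⟨j, hj⟩ := index_mul_dvd hQ M (r := 31) (k := 2) (s := 2) (a := 1) (c := 15) (by norm_num)
        (by rw [hc]; norm_num) (by rw [hc]; norm_num) (by rw [hc]) Nat.prime_two (dvd_refl 2)
        (by norm_num) (by norm_num)
      have d41 : M.index ∣ 41 ^ i * 2 :=
        Nat.dvd_of_mul_dvd_mul_right (by norm_num : 0 < 4) (by rw [mul_assoc]; exact hi)
      have d31 : M.index ∣ 31 ^ j := Nat.dvd_of_mul_dvd_mul_right two_pos (by simpa using hj)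
      have hMtop : M = ⊤ := Subgroup.index_eq_one.1 (Nat.eq_one_of_dvd_coprimes
        (Nat.Coprime.mul_right (Nat.Coprime.pow j i (by norm_num)) (Nat.Coprime.pow_left j (by norm_num)))
        d31 d41)
      exact ⟨R, hRn, hR2, F, iF, iFF,
        hSz.imp (And.imp_right (htop hMtop)) (And.imp_right (htop hMtop))⟩

end Cfsg.Agent.EPPO42
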