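import Cfsg.Agent.EPPO42.Simple
import Cfsg.Agent.CIT.Main

/-!
# The classification of simple CIT-groups instantiated
-/

set_option autoImplicit false

namespace Cfsg.Agent.EPPO42

universe u

theorem citIso : CITIso.{u} := fun G _ _ _ hG h => CIT.classify hG h

theorem citClass : CITClass.{u} := citClass_of_iso citIso

end Cfsg.Agent.EPPO42
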