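import Cfsg.Agent.EPPO42.Seven
import Cfsg.Agent.SL2Tor.PSLOrders
import Cfsg.Agent.Lib.LinearGroup.SmallPSL
import Cfsg.Agent.Lib.CharCore.Burnside
import Cfsg.Prelude.Def_Exceptional

/-!
# Groups whose element orders are powers of two or primes other than five
-/

set_option autoImplicit false
set_option linter.style.haveILetI false
set_option linter.unusedSectionVars false

open Subgroup

namespace Cfsg.Agent.EPPO42

open Cfsg.Agent.S3992

universe u

/-- The classification of simple CIT-groups, as a proposition. -/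
def CITClass : Prop :=
  ∀ (G : Type u) [Group G] [Finite G] [IsSimpleGroup G], (∃ a b : G, a * b ≠ b * a) →
    (∀ t : G, orderOf t = 2 → IsPGroup 2 (Subgroup.centralizer ({t} : Set G))) →
    (∃ (F : Type) (_ : Field F) (_ : Fintype F),
        (Fintype.card F = 9 ∨ (∃ n : ℕ, Fintype.card F = 2 ^ n) ∨
          ((Fintype.card F).Prime ∧ ∃ k : ℕ, Fintype.card F = 2 ^ k + 1 ∨ Fintype.card F + 1 = 2 ^ k)) ∧
        Nonempty (G ≃* Matrix.ProjectiveSpecialLinearGroup (Fin 2) F)) ∨
    (∃ (F : Type) (_ : Field F) (_ : Fintype F), Fintype.card F = 4 ∧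
        Nonempty (G ≃* Matrix.ProjectiveSpecialLinearGroup (Fin 3) F)) ∨
    Cfsg.IsSuzuki G

theorem three_dvd_two_pow (m : ℕ) : 3 ∣ 2 ^ (2 * m) - 1 ∧ 3 ∣ 2 ^ (2 * m + 1) + 1 := by
  induction m with
  | zero => norm_num
  | succ m ih =>
    obtain ⟨⟨a, ha⟩, ⟨b, hb⟩⟩ := ih
    have e1 : 2 ^ (2 * (m + 1)) = 4 * 2 ^ (2 * m) := by ring
    have e2 : 2 ^ (2 * (m + 1) + 1) = 4 * 2 ^ (2 * m + 1) := by ring
    have := Nat.one_le_two_pow (n := 2 * m)
    omega

/-- The only admissible order of the field. -/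
theorem card_eq_seven {q : ℕ} (h4 : 4 ≤ q)
    (hform : q = 9 ∨ (∃ n : ℕ, q = 2 ^ n) ∨ (q.Prime ∧ ∃ k : ℕ, q = 2 ^ k + 1 ∨ q + 1 = 2 ^ k))
    (hp : q.Prime → q ≠ 5)
    (hm : ∀ m, (m = (q - 1) / Nat.gcd 2 (q - 1) ∨ m = (q + 1) / Nat.gcd 2 (q - 1)) → 1 < m →
      (∃ k, m = 2 ^ k) ∨ (m.Prime ∧ m ≠ 5)) : q = 7 := by
  rcases hform with rfl | ⟨n, rfl⟩ | ⟨hqp, k, hk⟩
  · rcases hm 5 (Or.inr (by norm_num)) (by norm_num) with ⟨k, hk⟩ | ⟨-, h5⟩
    · exact absurd ((Nat.prime_dvd_prime_iff_eq (by norm_num) Nat.prime_two).1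
        ((by norm_num : Nat.Prime 5).dvd_of_dvd_pow (dvd_of_eq hk))) (by norm_num)
    · exact absurd rfl h5
  · exfalso
    have hn : 2 ≤ n := by
      by_contra h
      interval_cases n <;> norm_num at h4
    have heven : 2 ∣ 2 ^ n := dvd_pow_self 2 (by omega)
    have hg : Nat.gcd 2 (2 ^ n - 1) = 1 := by
      refine Nat.Coprime.gcd_eq_one ?_
      refine (Nat.prime_two.coprime_iff_not_dvd).2 ?_
      have := Nat.one_le_two_pow (n := n)
      omega
    rw [hg, Nat.div_one, Nat.div_one] at hm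
    have hodd : ∀ m, (m = 2 ^ n - 1 ∨ m = 2 ^ n + 1) → m.Prime ∧ m ≠ 5 := by
      intro m hm'
      have h1 : 1 < m := by omega
      refine (hm m hm' h1).resolve_left ?_
      rintro ⟨k, rfl⟩
      cases k with
      | zero => norm_num at h1
      | succ k =>
        have : 2 ∣ 2 ^ (k + 1) := dvd_pow_self 2 (by omega)
        omega
    obtain ⟨ha, -⟩ := hodd _ (Or.inl rfl)
    obtain ⟨hb, hb5⟩ := hodd _ (Or.inr rfl)
    obtain ⟨j, rfl | rfl⟩ := Nat.even_or_odd' n
    · have := (Nat.prime_dvd_prime_iff_eq Nat.prime_three ha).1 (three_dvd_two_pow j).1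
      omega
    · have := (Nat.prime_dvd_prime_iff_eq Nat.prime_three hb).1 (three_dvd_two_pow j).2
      omega
  · have hodd : q % 2 = 1 := hqp.eq_two_or_odd.resolve_left (by omega)
    have hg : Nat.gcd 2 (q - 1) = 2 := Nat.gcd_eq_left (by omega)
    rw [hg] at hm
    have h5 := hp hqp
    have key : ∀ m, (m = (q - 1) / 2 ∨ m = (q + 1) / 2) → 3 ∣ m → m ≠ 3 → False := by
      intro m hm' h3 hne
      have h1 : 1 < m := by omega
      rcases hm m hm' h1 with ⟨i, rfl⟩ | ⟨hmp, -⟩
      · exact absurd ((Nat.prime_dvd_prime_iff_eq Nat.prime_three Nat.prime_two).1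
          (Nat.prime_three.dvd_of_dvd_pow h3)) (by norm_num)
      · exact hne ((Nat.prime_dvd_prime_iff_eq Nat.prime_three hmp).1 h3).symm
    rcases hk with hk | hk
    · exfalso
      -- `q = 2 ^ k + 1`
      obtain ⟨k, rfl⟩ : ∃ i, k = i + 3 := by
        refine ⟨k - 3, ?_⟩
        by_contra h
        have : k < 3 := by omega
        interval_cases k <;> simp_all
      have e : 2 ^ (k + 3) = 2 * 2 ^ (k + 2) := by ring
      obtain ⟨j, hj | hj⟩ := Nat.even_or_odd' (k + 2)
      · -- `q = 2 ^ (2 j + 1) + 1` is divisible by three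
        have h3 : 3 ∣ q := by
          rw [hk, show k + 3 = 2 * j + 1 by omega]
          exact (three_dvd_two_pow j).2
        have := (Nat.prime_dvd_prime_iff_eq Nat.prime_three hqp).1 h3
        omega
      · have h3 := (three_dvd_two_pow j).2
        rw [← hj] at h3
        have h8 : 4 ≤ 2 ^ (k + 2) := le_trans (by norm_num) (Nat.pow_le_pow_right two_pos (show 2 ≤ k + 2 by omega))
        exact key (2 ^ (k + 2) + 1) (Or.inr (by omega)) h3 (by omega)
    · obtain ⟨k, rfl⟩ : ∃ i, k = i + 3 := by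
        refine ⟨k - 3, ?_⟩
        by_contra h
        have : k < 3 := by omega
        interval_cases k <;> norm_num at hk <;> omega
      by_contra h7
      obtain ⟨j, hj | hj⟩ := Nat.even_or_odd' (k + 3)
      · have h3 : 3 ∣ q := by
          have := (three_dvd_two_pow j).1
          rw [← hj, ← hk] at this
          omega
        have := (Nat.prime_dvd_prime_iff_eq Nat.prime_three hqp).1 h3
        omega
      · have h3 := (three_dvd_two_pow j).1
        have e : 2 ^ (k + 3) = 2 * 2 ^ (2 * j) := by rw [hj]; ring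
        exact key (2 ^ (2 * j) - 1) (Or.inl (by omega)) h3 (by omega)

theorem five_dvd_suzuki (m : ℕ) : 5 ∣ (2 ^ (2 * m + 1)) ^ 2 + 1 := by
  induction m with
  | zero => norm_num
  | succ m ih =>
    have e : (2 ^ (2 * (m + 1) + 1)) ^ 2 = 16 * (2 ^ (2 * m + 1)) ^ 2 := by ring
    omega

theorem card_PSL3_four {F : Type} [Field F] [Fintype F] (hF : Fintype.card F = 4) :
    5 ∣ Nat.card (Matrix.ProjectiveSpecialLinearGroup (Fin 3) F) := by
  have h := LinearGroup.gcd_mul_card_PSL (F := F) (n := Fin 3)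
  have h2 : Nat.card (Matrix.SpecialLinearGroup (Fin 3) F) = 60480 := by
    rw [LinearGroup.card_SL_eq_pow_mul_prod (m := 2), Nat.card_eq_fintype_card, hF]
    simp [Fin.sum_univ_three, Finset.prod_range_succ]
  rw [h2, Nat.card_eq_fintype_card (α := F), hF, Fintype.card_fin] at h
  norm_num at h
  omega

/-- The main statement, relative to the classification of simple CIT-groups. -/
theorem psl_two_seven (hCIT : CITClass.{u}) {G : Type u} [Group G] [Finite G]
    (h3 : 3 ≤ (Nat.card G).primeFactors.card)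
    (hord : ∀ g : G, g ≠ 1 → (∃ k : ℕ, orderOf g = 2 ^ k) ∨ ((orderOf g).Prime ∧ orderOf g ≠ 5)) :
    ∃ (F : Type) (_ : Field F) (_ : Fintype F), Fintype.card F = 7 ∧
      Nonempty (G ≃* Matrix.ProjectiveSpecialLinearGroup (Fin 2) F) := by
  classical
  have hpp : CP G := by
    intro g hg
    rcases hord g hg with ⟨k, hk⟩ | ⟨hp, -⟩
    · refine ⟨2, k, Nat.prime_two.prime, Nat.pos_of_ne_zero fun h0 => ?_, hk.symm⟩
      rw [h0, pow_zero] at hk
      exact hg (orderOf_eq_one_iff.1 hk)
    · exact hp.isPrimePow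
  have hns : ¬ Group.IsSolvable G := by
    intro hs
    have := S1475.result (G := G) fun g => by
      by_cases hg : g = 1
      · exact Or.inr hg
      · exact Or.inl (hpp g hg)
    omega
  obtain ⟨R, hRn, hRs, hRmax⟩ := exists_radical (G := G)
  obtain ⟨⟨p, hp, hRp⟩, ⟨M, hMn, hMs, hMnc, hMmin⟩, -⟩ := S3992.result hns hpp R hRs hRmax
  haveI := hRn
  haveI := hRs
  haveI := hMn
  haveI := hMs
  have hQcp : CP (G ⧸ R) := CP.quotient hpp R
  have hordM : ∀ x : M, x ≠ 1 → (∃ k : ℕ, orderOf x = 2 ^ k) ∨ ((orderOf x).Prime ∧ orderOf x ≠ 5) := by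
    intro x hx
    obtain ⟨g, hg⟩ := QuotientGroup.mk'_surjective R (x : G ⧸ R)
    have hd : orderOf x ∣ orderOf g := by
      rw [← Subgroup.orderOf_coe, ← hg]
      exact orderOf_map_dvd _ g
    have hg1 : g ≠ 1 := by
      rintro rfl
      rw [map_one] at hg
      exact hx (Subtype.ext hg.symm)
    rcases hord g hg1 with ⟨k, hk⟩ | ⟨hgp, hg5⟩
    · obtain ⟨i, -, hi⟩ := (Nat.dvd_prime_pow Nat.prime_two).1 (hk ▸ hd)
      exact Or.inl ⟨i, hi⟩
    · rcases (Nat.dvd_prime hgp).1 hd with h1 | h1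
      · exact absurd (orderOf_eq_one_iff.1 h1) hx
      · exact Or.inr ⟨h1 ▸ hgp, h1 ▸ hg5⟩
  have h5 : ¬ 5 ∣ Nat.card M := by
    intro h5
    haveI := Fact.mk Nat.prime_five
    obtain ⟨x, hx⟩ := exists_prime_orderOf_dvd_card' (G := M) 5 h5
    rcases hordM x (fun e => by rw [e, orderOf_one] at hx; omega) with ⟨k, hk⟩ | ⟨-, hne⟩
    · rw [hx] at hk
      exact absurd ((Nat.prime_dvd_prime_iff_eq Nat.prime_five Nat.prime_two).1
        (Nat.prime_five.dvd_of_dvd_pow (dvd_of_eq hk))) (by norm_num)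
    · exact hne hx
  have hMcp : CP M := fun g hg => by
    rw [← Subgroup.orderOf_coe]
    exact hQcp _ fun e => hg (Subtype.ext e)
  have hex : ∃ a b : M, a * b ≠ b * a := by
    by_contra hc
    push Not at hc
    exact hMnc ⟨⟨hc⟩⟩
  obtain ⟨F, iF, iFF, hF, ⟨e⟩⟩ : ∃ (F : Type) (_ : Field F) (_ : Fintype F), Fintype.card F = 7 ∧
      Nonempty (M ≃* Matrix.ProjectiveSpecialLinearGroup (Fin 2) F) := by
    rcases hCIT M hex (fun t ht => hMcp.isPGroup_centralizer Nat.prime_two ht) with
      ⟨F, iF, iFF, hform, ⟨e⟩⟩ | ⟨F, iF, iFF, hF, ⟨e⟩⟩ | ⟨-, m, -, hm⟩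
    · refine ⟨F, iF, iFF, ?_, ⟨e⟩⟩
      set q := Fintype.card F with hq
      obtain ⟨p, hcp⟩ := CharP.exists F
      have hpP : p.Prime := CharP.char_is_prime F p
      haveI := Fact.mk hpP
      have hq4 : 4 ≤ q := by
        by_contra hlt
        have hcard := LinearGroup.gcd_mul_card_PSL_two (F := F)
        rw [← Nat.card_congr e.toEquiv, Nat.card_eq_fintype_card (α := F), ← hq] at hcard
        have h1 : 1 < q := Fintype.one_lt_card
        apply hMnc
        haveI : Group.IsSolvable M := by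
          interval_cases q
          · norm_num at hcard
            exact CharCore.isSolvable_of_card_eq_prime_pow_mul Nat.prime_two Nat.prime_three (Nat.card M) M 1 1
              rfl (by omega)
          · norm_num at hcard
            exact CharCore.isSolvable_of_card_eq_prime_pow_mul Nat.prime_two Nat.prime_three (Nat.card M) M 2 1
              rfl (by omega)
        exact ⟨⟨IsSimpleGroup.comm_iff_isSolvable.2 inferInstance⟩⟩
      have hrange := SL2Tor.range_orderOf_psl (F := F) p
      refine card_eq_seven hq4 hform (fun hqp h => ?_) fun m hm h1 => ?_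
      · have hmem : p ∈ Set.range (orderOf : Matrix.ProjectiveSpecialLinearGroup (Fin 2) F → ℕ) := by
          rw [hrange]; exact Or.inl (dvd_refl p)
        obtain ⟨x, hx⟩ := hmem
        have hpq : p = q := by
          obtain ⟨n, -, hn⟩ := FiniteField.card F p
          rw [← hq] at hn
          exact (Nat.prime_dvd_prime_iff_eq hpP hqp).1 (hn ▸ dvd_pow_self p n.pos.ne')
        refine h5 ?_
        rw [← h, ← hpq, ← hx, ← MulEquiv.orderOf_eq e.symm]
        exact orderOf_dvd_natCard _
      · have hmem : m ∈ Set.range (orderOf : Matrix.ProjectiveSpecialLinearGroup (Fin 2) F → ℕ) := by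
          rw [hrange]
          rcases hm with rfl | rfl
          · exact Or.inr (Or.inl (dvd_refl _))
          · exact Or.inr (Or.inr (dvd_refl _))
        obtain ⟨x, hx⟩ := hmem
        have := hordM (e.symm x) (fun he => by
          rw [← MulEquiv.orderOf_eq e.symm, he, orderOf_one] at hx
          omega)
        rwa [MulEquiv.orderOf_eq, hx] at this
    · exact absurd (Nat.card_congr e.toEquiv ▸ card_PSL3_four hF) h5
    · exact absurd (hm ▸ dvd_mul_of_dvd_left (dvd_mul_of_dvd_right (five_dvd_suzuki m) _) _) h5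
  have hM168 : Nat.card M = 168 := by
    have := LinearGroup.gcd_mul_card_PSL_two (F := F)
    rw [← Nat.card_congr e.toEquiv, Nat.card_eq_fintype_card (α := F), hF] at this
    norm_num at this
    omega
  have hMtop : M = ⊤ := eq_top_of_card hQcp M hM168
  have hRbot : R = ⊥ := by
    by_contra hR
    by_cases hp2 : p = 2
    · subst hp2
      obtain ⟨a, b, ha, hb, hab, -⟩ := exists_seven hM168
      refine false_of_frobenius hpp R Nat.prime_two hRp hR (by norm_num : Nat.Prime 7) Nat.prime_three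
        (by norm_num) (by norm_num) (by norm_num) (a := (a : G ⧸ R)) (b := (b : G ⧸ R))
        (by rw [Subgroup.orderOf_coe, ha]) (by rw [Subgroup.orderOf_coe, hb]) ?_
      obtain ⟨i, hi⟩ := hab
      exact ⟨i, by simpa using congrArg Subtype.val hi⟩
    · haveI := Fact.mk Nat.prime_two
      obtain ⟨z, hz⟩ := exists_prime_orderOf_dvd_card' (G := M) 2 (by rw [hM168]; norm_num)
      have hc := central_of_odd_radical hpp R hRmax hp hp2 hRp hR
        (z := (z : G ⧸ R)) (by rw [Subgroup.orderOf_coe, hz])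
      have hzc : z ∈ center M := Subgroup.mem_center_iff.2 fun y =>
        Subtype.ext (Subgroup.mem_center_iff.1 hc y)
      rcases (inferInstance : (center M).Normal).eq_bot_or_eq_top with h1 | h1
      · rw [h1, mem_bot] at hzc
        rw [hzc, orderOf_one] at hz
        omega
      · exact hMnc ⟨⟨fun x y => Subgroup.mem_center_iff.1 (h1 ▸ Subgroup.mem_top y) x⟩⟩
  refine ⟨F, iF, iFF, hF, ⟨?_⟩⟩
  exact ((QuotientGroup.quotientBot (G := G)).symm.trans
    ((QuotientGroup.quotientMulEquivOfEq hRbot.symm).trans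
      ((Subgroup.topEquiv (G := G ⧸ R)).symm.trans (MulEquiv.subgroupCongr hMtop.symm)))).trans e

end Cfsg.Agent.EPPO42
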