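import Cfsg.Agent.EPPO42.Basic
import Cfsg.Agent.Lib.Involution.Dihedral
import Cfsg.Agent.Lib.Involution.BaerSuzuki
import Cfsg.Agent.Lib.Thompson.Cores

/-!
# Simple groups of order `168` with prime power element orders, and their overgroups
-/

set_option autoImplicit false
set_option linter.style.haveILetI false
set_option linter.unusedSectionVars false

open Subgroup

namespace Cfsg.Agent.EPPO42

open Cfsg.Agent.S3992

universe u

variable {Q : Type u} [Group Q] [Finite Q]

theorem mem_normalizer_zpowers {x g : Q} (h : g * x * g⁻¹ ∈ zpowers x) :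
    g ∈ normalizer (zpowers x : Set Q) := by
  have hmap : (zpowers x).map (MulAut.conj g).toMonoidHom = zpowers x := by
    refine Subgroup.eq_of_le_of_card_ge ?_ ?_
    · rw [MonoidHom.map_zpowers]
      exact zpowers_le.2 h
    · rw [Subgroup.card_map_of_injective (MulAut.conj g).injective]
  rw [Subgroup.mem_normalizer_iff]
  intro y
  constructor
  · intro hy
    rw [← hmap]
    exact ⟨y, hy, rfl⟩
  · intro hy
    rw [← hmap] at hy
    obtain ⟨y', hy', he⟩ := hy
    have : y' = y := (MulAut.conj g).injective he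
    rwa [← this]

theorem card_normalizer_dvd (h : CP Q) {r : ℕ} (hr : r.Prime) {a : Q} (ha : orderOf a = r) :
    ∃ i : ℕ, Nat.card ↥(normalizer (zpowers a : Set Q)) ∣ r ^ i * (r - 1) := by
  haveI := Fact.mk hr
  have hCA : centralizer (zpowers a : Set Q) ≤ centralizer ({a} : Set Q) :=
    centralizer_le (Set.singleton_subset_iff.2 (mem_zpowers a))
  obtain ⟨i, hi⟩ := IsPGroup.iff_card.1 ((h.isPGroup_centralizer hr ha).to_le hCA)
  refine ⟨i, ?_⟩
  set φ := (zpowers a).normalizerMonoidHom with hφ
  rw [← φ.ker.card_mul_index, Subgroup.index_ker]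
  refine Nat.mul_dvd_mul ?_ ?_
  · rw [hφ, Subgroup.normalizerMonoidHom_ker,
      ← Subgroup.card_map_of_injective (normalizer (zpowers a : Set Q)).subtype_injective,
      Subgroup.map_subgroupOf_eq_of_le, hi]
    intro x hx
    rw [Subgroup.mem_normalizer_iff]
    intro y
    constructor
    · intro hy
      rwa [← Subgroup.mem_centralizer_iff.1 hx y hy, mul_inv_cancel_right]
    · intro hy
      have h1 := Subgroup.mem_centralizer_iff.1 hx _ hy
      have h2 : y = x * y * x⁻¹ := by
        apply mul_right_cancel (b := x)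
        apply mul_left_cancel (a := x)
        calc x * (y * x) = (x * y * x⁻¹ * x) * x := by group
          _ = (x * (x * y * x⁻¹)) * x := by rw [← h1]
          _ = x * (x * y * x⁻¹ * x) := by group
      rwa [h2]
  · refine (Subgroup.card_subgroup_dvd_card _).trans ?_
    haveI : IsCyclic ↥(zpowers a) := inferInstance
    have hc : Nat.card ↥(zpowers a) = r := by rw [Nat.card_zpowers, ha]
    rw [IsCyclic.card_mulAut, hc, Nat.totient_prime hr]

section Simple168

variable {M : Type u} [Group M] [Finite M] [IsSimpleGroup M]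

theorem pCore_eq_bot (hM : Nat.card M = 168) : Cfsg.pCore 2 M = ⊥ := by
  haveI := Fact.mk Nat.prime_two
  refine (Subgroup.Normal.eq_bot_or_eq_top (Thompson.instPCoreNormal (G := M) (p := 2))).resolve_right ?_
  intro htop
  obtain ⟨n, hn⟩ := IsPGroup.iff_card.1 (Thompson.isPGroup_pCore (G := M) (p := 2))
  rw [htop, Subgroup.card_top, hM] at hn
  have h7 : 7 ∣ 2 ^ n := hn ▸ (by norm_num : 7 ∣ 168)
  exact absurd ((Nat.prime_dvd_prime_iff_eq (by norm_num) Nat.prime_two).1
    ((by norm_num : Nat.Prime 7).dvd_of_dvd_pow h7)) (by norm_num)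

theorem exists_seven (hM : Nat.card M = 168) :
    ∃ a b : M, orderOf a = 7 ∧ orderOf b = 3 ∧ b * a * b⁻¹ ∈ zpowers a ∧
      Nat.card ↥(normalizer (zpowers a : Set M)) = 21 := by
  haveI := Fact.mk (by norm_num : Nat.Prime 7)
  obtain ⟨a, ha⟩ := exists_prime_orderOf_dvd_card' (G := M) 7 (by rw [hM]; norm_num)
  have hP : IsPGroup 7 ↥(zpowers a) := IsPGroup.of_card (n := 1) (by rw [Nat.card_zpowers, ha, pow_one])
  have hidx : (zpowers a).index = 24 := by
    have := (zpowers a).card_mul_index
    rw [Nat.card_zpowers, ha, hM] at this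
    omega
  set P := hP.toSylow (by rw [hidx]; norm_num)
  have h1 := Sylow.card_eq_index_normalizer P
  have h2 := P.card_dvd_index
  have h3 := card_sylow_modEq_one 7 M
  have hcard := (normalizer (P : Set M)).card_mul_index
  rw [← h1, hM] at hcard
  have hne : Nat.card (Sylow 7 M) ≠ 1 := by
    intro he
    haveI : (zpowers a).Normal := by
      have : normalizer (P : Set M) = ⊤ := by
        rw [← Subgroup.index_eq_one, ← h1, he]
      exact Subgroup.normalizer_eq_top_iff.1 this
    rcases Subgroup.Normal.eq_bot_or_eq_top (inferInstance : (zpowers a).Normal) with h | h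
    · rw [zpowers_eq_bot] at h
      rw [h, orderOf_one] at ha
      omega
    · have := congrArg (fun H : Subgroup M => Nat.card H) h
      simp only [Nat.card_zpowers, ha, Subgroup.card_top, hM] at this
      omega
  have h8 : Nat.card (Sylow 7 M) = 8 := by
    change (Nat.card (Sylow 7 M)) ∣ (zpowers a).index at h2
    rw [hidx] at h2
    have hle := Nat.le_of_dvd (by norm_num) h2
    unfold Nat.ModEq at h3
    interval_cases (Nat.card (Sylow 7 M)) <;> omega
  rw [h8] at hcard
  have hN : Nat.card ↥(normalizer (zpowers a : Set M)) = 21 := by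
    change Nat.card ↥(normalizer (zpowers a : Set M)) * 8 = 168 at hcard
    omega
  haveI := Fact.mk Nat.prime_three
  obtain ⟨b, hb⟩ := exists_prime_orderOf_dvd_card' (G := ↥(normalizer (zpowers a : Set M))) 3
    (by rw [hN]; norm_num)
  exact ⟨a, b, ha, by rw [Subgroup.orderOf_coe, hb],
    (Subgroup.mem_normalizer_iff.1 b.2 a).1 (mem_zpowers a), hN⟩

theorem exists_three (hM : Nat.card M = 168) (h : CP M) :
    ∃ (f u : M), orderOf f = 3 ∧ orderOf u = 2 ∧ u * f * u⁻¹ ∈ zpowers f := by
  haveI := Fact.mk Nat.prime_two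
  obtain ⟨u, hu⟩ := exists_prime_orderOf_dvd_card' (G := M) 2 (by rw [hM]; norm_num)
  obtain ⟨c, hc⟩ : ∃ c, ¬ IsPGroup 2 ↥(closure ({u, c * u * c⁻¹} : Set M)) := by
    by_contra hall
    push Not at hall
    obtain ⟨N, hN, hNp, huN⟩ := Involution.baerSuzuki u hall
    have := Thompson.le_pCore hN hNp huN
    rw [pCore_eq_bot hM, mem_bot] at this
    rw [this, orderOf_one] at hu
    omega
  set v := c * u * c⁻¹ with hv
  have hvo : orderOf v = 2 := by rw [hv, Involution.orderOf_conj, hu]
  have hne : u * v ≠ 1 → ¬ ∃ k, orderOf (u * v) = 2 ^ k := by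
    rintro - ⟨k, hk⟩
    refine hc ?_
    obtain ⟨e'⟩ := Involution.closure_pair_equiv_dihedral (x := u) (y := v) hu hvo
    refine IsPGroup.of_card (n := k + 1) ?_
    rw [Nat.card_congr e'.toEquiv, DihedralGroup.nat_card, hk, pow_succ, mul_comm]
  have huv : u * v ≠ 1 := by
    intro e
    refine hc ?_
    obtain ⟨e'⟩ := Involution.closure_pair_equiv_dihedral (x := u) (y := v) hu hvo
    refine IsPGroup.of_card (n := 1) ?_
    rw [Nat.card_congr e'.toEquiv, DihedralGroup.nat_card, e, orderOf_one]
    rfl
  obtain ⟨r, k, hr, hk, hrk⟩ := h _ huv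
  have hrp := Nat.prime_iff.2 hr
  have hr2 : r ≠ 2 := fun e => hne huv ⟨k, e ▸ hrk.symm⟩
  have hd : r ^ k ∣ 168 := by rw [hrk, ← hM]; exact orderOf_dvd_natCard _
  have hr37 : r = 3 ∨ r = 7 := by
    have hr168 : r ∣ 168 := (dvd_pow_self r hk.ne').trans hd
    have : r ∈ Nat.primeFactors 168 := Nat.mem_primeFactors.2 ⟨hrp, hr168, by norm_num⟩
    rw [show Nat.primeFactors 168 = {2, 3, 7} by
      rw [show (168 : ℕ) = 2 ^ 3 * (3 * 7) by norm_num, Nat.primeFactors_mul (by norm_num) (by norm_num),
        Nat.primeFactors_prime_pow (by norm_num) Nat.prime_two,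
        Nat.primeFactors_mul (by norm_num) (by norm_num), Nat.Prime.primeFactors Nat.prime_three,
        Nat.Prime.primeFactors (by norm_num : Nat.Prime 7)]
      rfl] at this
    simp only [Finset.mem_insert, Finset.mem_singleton] at this
    omega
  have hinv : u * (u * v) * u⁻¹ = (u * v)⁻¹ :=
    Involution.inverts_mul (by rw [← pow_two, ← hu, pow_orderOf_eq_one])
      (by rw [← pow_two, ← hvo, pow_orderOf_eq_one])
  have hnorm : u * (u * v) * u⁻¹ ∈ zpowers (u * v) := by
    rw [hinv]; exact inv_mem (mem_zpowers _)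
  have hk1 : k = 1 := by
    by_contra hk1
    have : r ^ 2 ∣ 168 := (pow_dvd_pow r (by omega)).trans hd
    rcases hr37 with rfl | rfl <;> norm_num at this
  rw [hk1, pow_one] at hrk
  rcases hr37 with rfl | rfl
  · exact ⟨u * v, u, hrk.symm, hu, hnorm⟩
  · exfalso
    haveI := Fact.mk (by norm_num : Nat.Prime 7)
    obtain ⟨a, b, ha, -, -, hN⟩ := exists_seven hM
    have hP : IsPGroup 7 ↥(zpowers (u * v)) :=
      IsPGroup.of_card (n := 1) (by rw [Nat.card_zpowers, ← hrk, pow_one])
    have hPa : IsPGroup 7 ↥(zpowers a) :=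
      IsPGroup.of_card (n := 1) (by rw [Nat.card_zpowers, ha, pow_one])
    have hidx : ∀ x : M, orderOf x = 7 → ¬ 7 ∣ (zpowers x).index := fun x hx hd => by
      have h1 := (zpowers x).card_mul_index
      rw [Nat.card_zpowers, hx, hM] at h1
      have h24 : (zpowers x).index = 24 := by omega
      rw [h24] at hd
      omega
    obtain ⟨g, hg⟩ := MulAction.exists_smul_eq M (hP.toSylow (hidx _ hrk.symm))
      (hPa.toSylow (hidx _ ha))
    have hu' : u ∈ normalizer (zpowers (u * v) : Set M) := mem_normalizer_zpowers hnorm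
    have heq : (zpowers (u * v)).map (MulAut.conj g).toMonoidHom = zpowers a := by
      have := congrArg (fun S : Sylow 7 M => (S : Subgroup M)) hg
      simp only [Sylow.coe_subgroup_smul] at this
      exact this
    have hu2 : MulAut.conj g u ∈ normalizer (zpowers a : Set M) := by
      rw [← heq]
      exact Subgroup.le_normalizer_map _ ⟨u, hu', rfl⟩
    have := Subgroup.orderOf_dvd_natCard _ hu2
    rw [MulEquiv.orderOf_eq, hu, hN] at this
    omega

end Simple168

/-- A group with prime power element orders cannot properly contain a simple normal subgroup of order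
`168`. -/
theorem eq_top_of_card (h : CP Q) (M : Subgroup Q) [M.Normal] [IsSimpleGroup M]
    (hM : Nat.card M = 168) : M = ⊤ := by
  have hMcp : CP M := fun g hg => by
    rw [← Subgroup.orderOf_coe]
    exact h _ fun e => hg (Subtype.ext e)
  obtain ⟨a, b, ha, -, -, hN⟩ := exists_seven hM
  obtain ⟨f, u, hf, hu, huf⟩ := exists_three hM hMcp
  -- Frattini
  have key : ∀ (r : ℕ) (x : M), r.Prime → orderOf x = r → ¬ r ∣ (zpowers x).index →
      M.index * Nat.card ↥(normalizer (zpowers x : Set M)) ∣
        Nat.card ↥(normalizer (zpowers (x : Q) : Set Q)) := by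
    intro r x hr hx hidx
    haveI := Fact.mk hr
    have hP : IsPGroup r ↥(zpowers x) := IsPGroup.of_card (n := 1) (by rw [Nat.card_zpowers, hx, pow_one])
    have hsup := Sylow.normalizer_sup_eq_top (hP.toSylow hidx)
    have hmap : ((hP.toSylow hidx : Subgroup M)).map M.subtype = zpowers (x : Q) :=
      MonoidHom.map_zpowers _ _
    rw [hmap] at hsup
    set N := normalizer (zpowers (x : Q) : Set Q) with hNdef
    have e1 : M.relIndex N = M.index := by
      rw [← Subgroup.relIndex_sup_right, hsup, Subgroup.relIndex_top_right]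
    have e2 : Nat.card ↥(normalizer (zpowers x : Set M)) = Nat.card ↥(M.subgroupOf N) := by
      rw [← Subgroup.card_map_of_injective M.subtype_injective,
        ← Subgroup.card_map_of_injective N.subtype_injective, Subgroup.subgroupOf_map_subtype]
      congr 1
      congr 1
      ext y
      constructor
      · rintro ⟨y, hy, rfl⟩
        refine ⟨y.2, ?_⟩
        rw [hNdef, show zpowers (x : Q) = (zpowers x).map M.subtype from (MonoidHom.map_zpowers M.subtype x).symm]
        exact Subgroup.le_normalizer_map _ ⟨y, hy, rfl⟩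
      · rintro ⟨hyM, hy⟩
        refine ⟨⟨y, hyM⟩, Subgroup.mem_normalizer_iff.2 fun z => ?_, rfl⟩
        have := Subgroup.mem_normalizer_iff.1 hy z
        rw [show zpowers (x : Q) = (zpowers x).map M.subtype from (MonoidHom.map_zpowers M.subtype x).symm] at this
        constructor
        · intro hz
          obtain ⟨w, hw, he⟩ := this.1 ⟨z, hz, rfl⟩
          have : w = ⟨y, hyM⟩ * z * ⟨y, hyM⟩⁻¹ := M.subtype_injective he
          rwa [← this]
        · intro hz
          obtain ⟨w, hw, he⟩ := this.2 ⟨_, hz, rfl⟩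
          have : w = z := M.subtype_injective he
          rwa [← this]
    rw [← e1, e2, Subgroup.relIndex, mul_comm, Subgroup.card_mul_index]
  obtain ⟨i, hi⟩ := card_normalizer_dvd h (by norm_num : Nat.Prime 7)
    (show orderOf (a : Q) = 7 by rw [Subgroup.orderOf_coe, ha])
  obtain ⟨j, hj⟩ := card_normalizer_dvd h Nat.prime_three
    (show orderOf (f : Q) = 3 by rw [Subgroup.orderOf_coe, hf])
  have hidx : ∀ (x : M) (r : ℕ), orderOf x = r → (r = 3 ∨ r = 7) → ¬ r ∣ (zpowers x).index := by
    intro x r hx hr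
    have h1 := (zpowers x).card_mul_index
    rw [Nat.card_zpowers, hx, hM] at h1
    rcases hr with rfl | rfl
    · have : (zpowers x).index = 56 := by omega
      rw [this]; norm_num
    · have : (zpowers x).index = 24 := by omega
      rw [this]; norm_num
  have d7 := (key 7 a (by norm_num) ha (hidx a 7 ha (Or.inr rfl))).trans hi
  have d3 := (key 3 f Nat.prime_three hf (hidx f 3 hf (Or.inl rfl))).trans hj
  rw [hN] at d7
  have h2N : 2 ∣ Nat.card ↥(normalizer (zpowers f : Set M)) := by
    have humem : u ∈ normalizer (zpowers f : Set M) := mem_normalizer_zpowers huf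
    exact hu ▸ Subgroup.orderOf_dvd_natCard _ humem
  have d3' : M.index ∣ 3 ^ j := by
    refine (Nat.mul_dvd_mul_iff_right (show 0 < 2 by norm_num)).1 ?_
    exact (Nat.mul_dvd_mul_left _ h2N).trans d3
  have d7' : M.index ∣ 7 ^ i * 2 := by
    refine (Nat.mul_dvd_mul_iff_right (show 0 < 3 by norm_num)).1 ?_
    refine (Nat.mul_dvd_mul_left _ (show 3 ∣ 21 by norm_num)).trans ?_
    rw [mul_assoc]
    exact d7
  rw [← Subgroup.index_eq_one]
  refine Nat.eq_one_of_dvd_coprimes ?_ d3' d7'
  refine Nat.Coprime.mul_right ?_ ?_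
  · exact Nat.Coprime.pow j i (by norm_num)
  · exact Nat.Coprime.pow_left j (by norm_num)

end Cfsg.Agent.EPPO42
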